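import Mathlib
import Cfsg.Prelude.Def_Characters
import Cfsg.Agent.Lib.Characters.Kernel
import Cfsg.Agent.Lib.FrobeniusSchur.Basic

/-!
# Symmetric squares and characters of degree three of perfect groups
-/

set_option autoImplicit false

namespace Cfsg.Agent.CharTheory.DegreeThree

open Cfsg.Agent.Characters
open Cfsg.Agent.FrobeniusSchur (mat act act_apply act_act mat_one trn trace_act trace_trn_act)
open scoped ComplexConjugate
open Module

universe u

variable {G : Type u} [Group G]

theorem det_eq_one (hperf : commutator G = ⊤) (f : G →* ℂ) (g : G) : f g = 1 := by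
  have h : g ∈ commutator G := hperf ▸ Subgroup.mem_top g
  have h1 := Abelianization.commutator_subset_ker (f.toHomUnits) h
  exact congrArg Units.val (MonoidHom.mem_ker.1 h1)

/-- In a perfect group a character of degree three satisfies `χ(g²) = χ(g)² - 2 conj (χ g)`. -/
theorem square_eq [Finite G] (hperf : commutator G = ⊤) {χ : G → ℂ}
    (hχ : Cfsg.IsCharacter G χ) (h3 : χ 1 = 3) (g : G) :
    χ (g * g) = χ g ^ 2 - 2 * conj (χ g) := by
  classical
  obtain ⟨n, ρ, rfl⟩ := hχ
  have hd : finrank ℂ (Fin n → ℂ) = 3 := by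
    have := ρ.char_one; rw [h3] at this; exact_mod_cast this.symm
  obtain ⟨b, w, hw, hb⟩ := exists_eigenbasis ρ g
  have hdet : ∏ i, w i = 1 := by
    have h1 : LinearMap.det (ρ g) = 1 :=
      det_eq_one hperf ((LinearMap.det : ((Fin n → ℂ) →ₗ[ℂ] (Fin n → ℂ)) →* ℂ).comp ρ) g
    rw [← LinearMap.det_toMatrix b] at h1
    rw [← h1]
    have : LinearMap.toMatrix b b (ρ g) = Matrix.diagonal w := by
      ext i j
      rw [LinearMap.toMatrix_apply, hb, map_smul, Finsupp.smul_apply, b.repr_self,
        Finsupp.single_apply, smul_eq_mul]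
      by_cases h : i = j
      · subst h; simp
      · rw [Matrix.diagonal_apply_ne _ h, if_neg (Ne.symm h), mul_zero]
    rw [this, Matrix.det_diagonal]
  have hc : ∀ i, conj (w i) * w i = 1 := fun i => by
    rw [Complex.conj_mul', Complex.norm_eq_one_of_pow_eq_one (hw i) (orderOf_pos g).ne']
    simp
  have hv : ∀ k : ℕ, ρ.character (g ^ k) = ∑ i, w i ^ k := fun k =>
    trace_of_eigenbasis b _ (apply_pow_eigenbasis ρ b w hb k)
  have e2 : ρ.character (g * g) = ∑ i, w i ^ 2 := by rw [← pow_two g, hv]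
  have e1 : ρ.character g = ∑ i, w i := by simpa using hv 1
  rw [e2, e1, map_sum]
  generalize finrank ℂ (Fin n → ℂ) = m at hd b w hw hb hdet hc hv e1 e2 ⊢
  subst hd
  simp only [Fin.sum_univ_three, Fin.prod_univ_three] at hdet ⊢
  have k0 : conj (w 0) = w 1 * w 2 := by
    linear_combination (w 1 * w 2) * hc 0 - conj (w 0) * hdet
  have k1 : conj (w 1) = w 0 * w 2 := by
    linear_combination (w 0 * w 2) * hc 1 - conj (w 1) * hdet
  have k2 : conj (w 2) = w 0 * w 1 := by
    linear_combination (w 0 * w 1) * hc 2 - conj (w 2) * hdet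
  rw [k0, k1, k2]
  ring

/-- The representation on bilinear forms. -/
noncomputable def formRep {n : ℕ} (ρ : Representation ℂ G (Fin n → ℂ)) :
    Representation ℂ G (Matrix (Fin n) (Fin n) ℂ) where
  toFun g := act ρ g⁻¹
  map_one' := by
    refine LinearMap.ext fun M => ?_
    rw [inv_one, act_apply, mat_one]; simp
  map_mul' g h := by
    refine LinearMap.ext fun M => ?_
    rw [Module.End.mul_apply, act_act, mul_inv_rev]

/-- The symmetric square of a character is a character. -/
theorem isCharacter_symSquare [Finite G] {χ : G → ℂ} (hχ : Cfsg.IsCharacter G χ) :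
    Cfsg.IsCharacter G (fun g => (χ g ^ 2 + χ (g * g)) / 2) := by
  obtain ⟨n, ρ, rfl⟩ := hχ
  let T : Matrix (Fin n) (Fin n) ℂ →ₗ[ℂ] Matrix (Fin n) (Fin n) ℂ :=
    (2 : ℂ)⁻¹ • (LinearMap.id + trn)
  have hcomm : ∀ (g : G) (M : Matrix (Fin n) (Fin n) ℂ), T (formRep ρ g M) = formRep ρ g (T M) := by
    intro g M
    show (2 : ℂ)⁻¹ • (act ρ g⁻¹ M + (act ρ g⁻¹ M).transpose) =
      act ρ g⁻¹ ((2 : ℂ)⁻¹ • (M + M.transpose))
    rw [map_smul, map_add]
    congr 2
    simp [act_apply, Matrix.transpose_mul, Matrix.mul_assoc]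
  have hTT : ∀ M, T (T M) = T M := by
    intro M
    show (2 : ℂ)⁻¹ • (((2 : ℂ)⁻¹ • (M + M.transpose)) + ((2 : ℂ)⁻¹ • (M + M.transpose)).transpose) =
      (2 : ℂ)⁻¹ • (M + M.transpose)
    rw [Matrix.transpose_smul, Matrix.transpose_add, Matrix.transpose_transpose, add_comm M.transpose M,
      ← two_smul ℂ ((2 : ℂ)⁻¹ • (M + M.transpose)), smul_smul, inv_mul_cancel₀ two_ne_zero, one_smul]
  let σ : Representation ℂ G (LinearMap.range T) :=
    { toFun := fun g => (formRep ρ g).restrict (p := LinearMap.range T) (q := LinearMap.range T)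
        fun M hM => by
          obtain ⟨N, rfl⟩ := hM
          exact ⟨formRep ρ g N, hcomm g N⟩
      map_one' := by
        refine LinearMap.ext fun M => Subtype.ext ?_
        simp
      map_mul' := fun g h => by
        refine LinearMap.ext fun M => Subtype.ext ?_
        simp }
  have hσ : ∀ g, σ.character g = ((ρ.character g⁻¹) ^ 2 + ρ.character (g⁻¹ * g⁻¹)) / 2 := by
    intro g
    have h1 : σ g = (T.rangeRestrict ∘ₗ formRep ρ g) ∘ₗ (LinearMap.range T).subtype := by
      refine LinearMap.ext fun M => Subtype.ext ?_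
      obtain ⟨_, N, rfl⟩ := M
      show formRep ρ g (T N) = T (formRep ρ g (T N))
      rw [hcomm g (T N), hTT]
    show LinearMap.trace ℂ _ (σ g) = _
    rw [h1, LinearMap.trace_comp_comm']
    have h2 : (LinearMap.range T).subtype ∘ₗ (T.rangeRestrict ∘ₗ formRep ρ g) =
        (2 : ℂ)⁻¹ • (act ρ g⁻¹ + trn ∘ₗ act ρ g⁻¹) := by
      refine LinearMap.ext fun M => ?_
      rfl
    rw [h2, map_smul, map_add, trace_act, trace_trn_act, smul_eq_mul]
    ring
  have := isCharacter_conj (isCharacter_character σ)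
  convert this using 1
  funext g
  rw [hσ g, ← mul_inv_rev, rep_char_inv, rep_char_inv]
  simp [map_ofNat]

/-- Removing an irreducible constituent. -/
theorem exists_sub_irr [Fintype G] {Φ ψ : G → ℂ} (hΦ : Cfsg.IsCharacter G Φ)
    (hψ : Cfsg.IsIrrCharacter G ψ) (h : Cfsg.classInner Φ ψ ≠ 0) :
    Cfsg.IsCharacter G (Φ - ψ) := by
  classical
  refine isCharacter_of_classInner_nat (fun x y => ?_) fun φ hφ => ?_
  · simp only [Pi.sub_apply]
    rw [char_isClassFunction hΦ x y, char_isClassFunction (isCharacter_of_isIrr hψ) x y]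
  obtain ⟨k, hk⟩ := classInner_char_nat hΦ (isCharacter_of_isIrr hφ)
  rw [classInner_sub_left, hk]
  by_cases e : ψ = φ
  · subst e
    rw [classInner_isIrr_self hψ]
    have : k ≠ 0 := fun e => h (by rw [hk, e, Nat.cast_zero])
    exact ⟨k - 1, by rw [Nat.cast_sub (Nat.pos_of_ne_zero this)]; simp⟩
  · rw [classInner_isIrr_ne hψ hφ e]
    exact ⟨k, by simp⟩

theorem classInner_mul_conj [Fintype G] (a b c : G → ℂ) :
    Cfsg.classInner (a * b) c = Cfsg.classInner a ((fun g => conj (b g)) * c) := by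
  simp only [classInner_def, Pi.mul_apply, map_mul, Complex.conj_conj]
  congr 1
  exact Finset.sum_congr rfl fun g _ => by ring

end Cfsg.Agent.CharTheory.DegreeThree
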