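import Mathlib

/-!
# Values of two characters of degree three with the same symmetric square

The algebra done separately at each group element `g`: `a = χ g`, `b = θ g`, and the values at
`g * g` are `a ^ 2 - 2 * conj a` and `b ^ 2 - 2 * conj b`.
-/

set_option autoImplicit false

namespace Cfsg.Agent.CharTheory.DegreeThree.Pointwise

open scoped ComplexConjugate
open Complex (normSq)

/-- The conditions on a pair of values. -/
structure Rel (a b : ℂ) : Prop where
  sq : a ^ 2 - conj a = b ^ 2 - conj b
  sq' : (a ^ 2 - 2 * conj a) ^ 2 - conj (a ^ 2 - 2 * conj a) =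
    (b ^ 2 - 2 * conj b) ^ 2 - conj (b ^ 2 - 2 * conj b)
  norm : a * conj a = b * conj b

theorem Rel.symm {a b : ℂ} (h : Rel a b) : Rel b a := ⟨h.sq.symm, h.sq'.symm, h.norm.symm⟩

theorem cubes {a b : ℂ} (h : Rel a b) (hne : a ≠ b) :
    normSq (a - b) = 7 ∧ normSq (a + b) = 1 ∧ (a ^ 3).re = 5 / 2 ∧ (a * a * b).re = -1 := by
  obtain ⟨h1, h2, h3⟩ := h
  have hD : a - b ≠ 0 := sub_ne_zero.2 hne
  have hD' : conj a - conj b ≠ 0 := by
    rw [← map_sub]; exact (map_ne_zero _).2 hD
  have hsD : (a + b) * (a - b) = conj a - conj b := by linear_combination h1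
  have hsD' : (conj a + conj b) * (conj a - conj b) = a - b := by
    have := congrArg conj hsD
    simpa using this
  have hss : (a + b) * (conj a + conj b) = 1 := by
    refine mul_right_cancel₀ hD ?_
    calc (a + b) * (conj a + conj b) * (a - b)
        = (conj a + conj b) * ((a + b) * (a - b)) := by ring
      _ = (conj a + conj b) * (conj a - conj b) := by rw [hsD]
      _ = a - b := hsD'
      _ = 1 * (a - b) := (one_mul _).symm
  -- the relation at the square
  have hE : (a ^ 2 - 2 * conj a) - (b ^ 2 - 2 * conj b) = -(conj a - conj b) := by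
    linear_combination h1
  have hEs : (a ^ 2 + b ^ 2 - 2 * (conj a + conj b)) * (-(conj a - conj b)) = -(a - b) := by
    have h4 : conj (a ^ 2 - 2 * conj a) - conj (b ^ 2 - 2 * conj b) = -(a - b) := by
      have := congrArg conj hE
      simpa using this
    linear_combination h2 + h4 + (-(a ^ 2 + b ^ 2 - 2 * (conj a + conj b))) * hE
  have hq : a ^ 2 + b ^ 2 = 3 * (conj a + conj b) := by
    refine mul_right_cancel₀ hD' ?_
    linear_combination -hEs - hsD'
  have hcube : (a + b) ^ 3 = -1 := by
    have h5 : 2 * conj a = (2 * a - (a + b)) * (a + b) + (conj a + conj b) := by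
      linear_combination -hsD
    have h6 : (a * 2 - (a + b)) * ((a + b) ^ 3 + 1) = 0 := by
      linear_combination 2 * (a + b) * h3 - (a + b) ^ 2 * h5 -
        (2 * a - (a + b)) * hss
    rcases mul_eq_zero.1 h6 with h7 | h7
    · exact absurd (by linear_combination h7) hne
    · linear_combination h7
  have hbar : conj a + conj b = -(a + b) ^ 2 := by
    linear_combination (-(a + b) ^ 2) * hss + (conj a + conj b) * hcube
  have hq2 : a ^ 2 + b ^ 2 = -3 * (a + b) ^ 2 := by rw [hq, hbar]; ring
  have hab : a * b = 2 * (a + b) ^ 2 := by linear_combination (-1 / 2) * hq2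
  refine ⟨?_, ?_, ?_, ?_⟩
  · have h : ((normSq (a - b) : ℝ) : ℂ) = 7 := by
      rw [Complex.normSq_eq_conj_mul_self, map_sub, ← hsD]
      linear_combination 2 * (a + b) * hq2 - 7 * hcube
    exact_mod_cast h
  · have h : ((normSq (a + b) : ℝ) : ℂ) = 1 := by
      rw [Complex.normSq_eq_conj_mul_self, map_add]
      linear_combination hss
    exact_mod_cast h
  · have hconj : (a + b) ^ 2 * a + conj ((a + b) ^ 2 * a) = -1 := by
      rw [map_mul, map_pow, map_add, hbar]
      have h5 : 2 * conj a = (2 * a - (a + b)) * (a + b) + (conj a + conj b) := by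
        linear_combination -hsD
      rw [hbar] at h5
      linear_combination ((a + b) ^ 4 / 2) * h5 + (a * (a + b) ^ 2 - (a + b) ^ 3 + 1) * hcube
    have hre : ((a + b) ^ 2 * a).re = -1 / 2 := by
      rw [Complex.add_conj] at hconj
      have := congrArg Complex.re hconj
      simp only [Complex.ofReal_re, Complex.neg_re, Complex.one_re] at this
      linarith
    have ha3 : a ^ 3 = -((a + b) ^ 2 * a) + 2 := by
      linear_combination (-(a + (a + b))) * hab - 2 * hcube
    rw [ha3, Complex.add_re, Complex.neg_re, hre]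
    norm_num
  · have hconj : (a + b) ^ 2 * a + conj ((a + b) ^ 2 * a) = -1 := by
      rw [map_mul, map_pow, map_add, hbar]
      have h5 : 2 * conj a = (2 * a - (a + b)) * (a + b) + (conj a + conj b) := by
        linear_combination -hsD
      rw [hbar] at h5
      linear_combination ((a + b) ^ 4 / 2) * h5 + (a * (a + b) ^ 2 - (a + b) ^ 3 + 1) * hcube
    have hre : ((a + b) ^ 2 * a).re = -1 / 2 := by
      rw [Complex.add_conj] at hconj
      have := congrArg Complex.re hconj
      simp only [Complex.ofReal_re, Complex.neg_re, Complex.one_re] at this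
      linarith
    rw [show a * a * b = 2 * ((a + b) ^ 2 * a) by linear_combination a * hab, Complex.mul_re, hre]
    norm_num

/-- The identity averaged over the group for three characters. -/
theorem triple {a b c : ℂ} (hab : Rel a b) (hbc : Rel b c) (hac : Rel a c) :
    (a * b * c).re = ((a ^ 3).re + (b ^ 3).re + (c ^ 3).re) / 3 -
      (normSq (a - b) + normSq (b - c) + normSq (a - c)) / 4 := by
  rcases eq_or_ne a b with rfl | h1
  · rcases eq_or_ne a c with rfl | h2
    · have e : a * a * a = a ^ 3 := by ring
      rw [e]; simp; ring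
    · obtain ⟨p1, -, p3, p4⟩ := cubes hac h2
      obtain ⟨-, -, q3, -⟩ := cubes hac.symm h2.symm
      rw [p4, p3, q3, p1]; simp; norm_num
  · rcases eq_or_ne b c with rfl | h2
    · obtain ⟨p1, -, p3, -⟩ := cubes hab h1
      obtain ⟨-, -, q3, q4⟩ := cubes hab.symm h1.symm
      rw [show a * b * b = b * b * a by ring, q4, p3, q3, p1]; simp; norm_num
    · rcases eq_or_ne a c with rfl | h3
      · obtain ⟨p1, -, p3, p4⟩ := cubes hab h1
        obtain ⟨q1, -, q3, -⟩ := cubes hbc h2
        rw [show a * b * a = a * a * b by ring, p4, p3, q3, p1, q1]; simp; norm_num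
      · obtain ⟨-, p2, -, -⟩ := cubes hab h1
        obtain ⟨-, q2, -, -⟩ := cubes hbc h2
        obtain ⟨r1, -, -, -⟩ := cubes hac h3
        exfalso
        have key : normSq (a - c) + normSq ((a + b) + (b + c)) =
            2 * normSq (a + b) + 2 * normSq (b + c) := by
          simp only [Complex.normSq_apply, Complex.sub_re, Complex.sub_im, Complex.add_re,
            Complex.add_im]
          ring
        have := Complex.normSq_nonneg ((a + b) + (b + c))
        linarith

/-- Two real values with the same symmetric square. -/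
theorem real_pair {a b : ℝ} (h1 : a ^ 2 - a = b ^ 2 - b)
    (h2 : (a ^ 2 - 2 * a) ^ 2 - (a ^ 2 - 2 * a) = (b ^ 2 - 2 * b) ^ 2 - (b ^ 2 - 2 * b))
    (hne : a ≠ b) : b = 1 - a ∧ a ^ 2 = a + 1 := by
  have hD : a - b ≠ 0 := sub_ne_zero.2 hne
  have hb : b = 1 - a := by
    have : (a - b) * (a + b - 1) = 0 := by linear_combination h1
    rcases mul_eq_zero.1 this with h | h
    · exact absurd h hD
    · linarith
  refine ⟨hb, ?_⟩
  subst hb
  have : (a - (1 - a)) * (a ^ 2 - a - 1) = 0 := by linear_combination (-1 / 2) * h2
  rcases mul_eq_zero.1 this with h | h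
  · exact absurd h hD
  · linarith

end Cfsg.Agent.CharTheory.DegreeThree.Pointwise
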