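import Mathlib
import Cfsg.Agent.Lib.CharTheory.DegreeThree.Basic
import Cfsg.Agent.Lib.CharTheory.DegreeThree.Pointwise
import Cfsg.Agent.Recognition.OrderSixty
import Cfsg.Agent.S0494

/-!
# An element at which `χ(1) - χ(u) = 4` or `χ(u) = 0` for all nonprincipal `χ`

The column orthogonality forces characters of degree three with value `-1`; their low moments give
a quotient of order sixty.
-/

set_option autoImplicit false
set_option linter.style.haveILetI false

namespace Cfsg.Agent.CharTheory.DegreeThree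

open Cfsg.Agent.Characters
open Cfsg.Agent.FrobeniusSchur (conjIrr conjIrr_coe)
open scoped ComplexConjugate

universe u

variable {G : Type u} [Group G]

/-- The hypothesis on `u`. -/
structure Hyp (u : G) : Prop where
  ne : u ≠ 1
  val : ∀ χ : Cfsg.IrrCharacter G, (χ : G → ℂ) ≠ (fun _ => (1 : ℂ)) →
    ((χ : G → ℂ) 1 - (χ : G → ℂ) u = 4 ∨ (χ : G → ℂ) u = 0)

/-- The degree. -/
noncomputable def deg (χ : Cfsg.IrrCharacter G) : ℕ :=
  Classical.choose (char_one_nat (irr_isCharacter χ))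

theorem deg_spec (χ : Cfsg.IrrCharacter G) : (χ : G → ℂ) 1 = (deg χ : ℂ) :=
  Classical.choose_spec (char_one_nat (irr_isCharacter χ))

theorem deg_pos (χ : Cfsg.IrrCharacter G) : 0 < deg χ := by
  obtain ⟨n, hn, he⟩ := irr_one_pos χ.2
  rw [deg_spec] at he
  have : deg χ = n := by exact_mod_cast he
  omega

theorem deg_eq {χ : Cfsg.IrrCharacter G} {d : ℕ} (h : (χ : G → ℂ) 1 = (d : ℂ)) : deg χ = d := by
  rw [deg_spec] at h; exact_mod_cast h

theorem deg_triv : deg (trivIrr G) = 1 := deg_eq (by simp)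

theorem ne_triv {χ : Cfsg.IrrCharacter G} (h : deg χ ≠ 1) : χ ≠ trivIrr G :=
  fun e => h (e ▸ deg_triv)

/-- The value at `u`. -/
noncomputable def vl (u : G) (χ : Cfsg.IrrCharacter G) : ℤ :=
  if (χ : G → ℂ) u = 0 then 0 else (deg χ : ℤ) - 4

theorem vl_spec {u : G} (h : Hyp u) {χ : Cfsg.IrrCharacter G} (hχ : χ ≠ trivIrr G) :
    (χ : G → ℂ) u = (vl u χ : ℂ) ∧ (vl u χ = 0 ∨ vl u χ = (deg χ : ℤ) - 4) := by
  unfold vl
  split_ifs with h0
  · exact ⟨by simpa using h0, Or.inl rfl⟩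
  · refine ⟨?_, Or.inr rfl⟩
    rcases h.val χ (fun e => hχ (Subtype.ext (by simpa using e))) with h1 | h1
    · rw [deg_spec] at h1
      push_cast
      linear_combination -h1
    · exact absurd h1 h0

/-- The real irreducible characters. -/
def IsReal (χ : Cfsg.IrrCharacter G) : Prop := ∀ g, conj ((χ : G → ℂ) g) = (χ : G → ℂ) g

/-- `χ² - conj χ`. -/
noncomputable def sq2 (χ : Cfsg.IrrCharacter G) : G → ℂ :=
  fun g => (χ : G → ℂ) g ^ 2 - conj ((χ : G → ℂ) g)

/-- `χ conj χ`. -/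
noncomputable def absSq (χ : Cfsg.IrrCharacter G) : G → ℂ :=
  fun g => (χ : G → ℂ) g * conj ((χ : G → ℂ) g)

variable [Fintype G]

theorem inner_deg_ne {χ θ : Cfsg.IrrCharacter G} (h : deg χ ≠ deg θ) :
    Cfsg.classInner (χ : G → ℂ) (θ : G → ℂ) = 0 :=
  classInner_isIrr_ne χ.2 θ.2 fun e => h (by rw [Subtype.ext e])

theorem inner_self (χ : Cfsg.IrrCharacter G) : Cfsg.classInner (χ : G → ℂ) (χ : G → ℂ) = 1 :=
  classInner_isIrr_self χ.2

theorem sum_eq_card_mul {f h : G → ℂ} {c : ℂ} (e : Cfsg.classInner f h = c) :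
    ∑ g : G, f g * conj (h g) = (Nat.card G : ℂ) * c := by
  rw [← e, classInner_def, ← mul_assoc, mul_inv_cancel₀ natCard_ne_zero, one_mul]

variable {u : G}

theorem linear_eq_triv (h : Hyp u) (χ : Cfsg.IrrCharacter G) (h1 : deg χ = 1) : χ = trivIrr G := by
  by_contra hne
  obtain ⟨e, hv⟩ := vl_spec h hne
  have h11 : (χ : G → ℂ) 1 = 1 := by rw [deg_spec, h1]; simp
  have hn : ‖(χ : G → ℂ) u‖ = 1 := by
    have := linear_norm_eq_one (linearOfDegreeOne (irr_isCharacter χ) h11) u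
    simpa using this
  rw [e] at hn
  rcases hv with hv | hv <;> rw [hv] at hn
  · simp at hn
  · rw [h1] at hn; norm_num at hn

theorem perfect (h : Hyp u) : commutator G = ⊤ := by
  rw [← Subgroup.index_eq_one, ← card_degree_one]
  refine Nat.card_eq_one_iff_unique.2 ⟨⟨fun a b => Subtype.ext ?_⟩, ⟨⟨trivIrr G, by simp⟩⟩⟩
  rw [linear_eq_triv h a.1 (deg_eq (by rw [a.2]; simp)),
    linear_eq_triv h b.1 (deg_eq (by rw [b.2]; simp))]

theorem two_le_deg (h : Hyp u) {χ : Cfsg.IrrCharacter G} (hχ : χ ≠ trivIrr G) : 2 ≤ deg χ := by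
  have := deg_pos χ
  have : deg χ ≠ 1 := fun e => hχ (linear_eq_triv h χ e)
  omega

theorem decompose (h : Hyp u) [Fintype (Cfsg.IrrCharacter G)] {Φ : G → ℂ}
    (hΦ : Cfsg.IsCharacter G Φ) (h0 : Cfsg.classInner Φ (fun _ => (1 : ℂ)) = 0) :
    ∃ n : Cfsg.IrrCharacter G → ℕ, n (trivIrr G) = 0 ∧
      Φ = (∑ ψ : Cfsg.IrrCharacter G, (n ψ : ℂ) • (ψ : G → ℂ)) ∧
      Φ u = ((∑ ψ : Cfsg.IrrCharacter G, (n ψ : ℤ) * vl u ψ : ℤ) : ℂ) ∧
      ∀ d : ℕ, Φ 1 = (d : ℂ) → (∑ ψ : Cfsg.IrrCharacter G, n ψ * deg ψ) = d := by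
  classical
  obtain ⟨n, hn⟩ := char_eq_sum_nat hΦ
  have ht : n (trivIrr G) = 0 := by
    have := classInner_sum_smul_irr (c := fun ψ => (n ψ : ℂ)) Finset.univ (trivIrr G)
    rw [← hn, if_pos (Finset.mem_univ _), trivIrr_coe, h0] at this
    exact_mod_cast this.symm
  refine ⟨n, ht, hn, ?_, fun d hd => ?_⟩
  · rw [hn, Finset.sum_apply, Int.cast_sum]
    refine Finset.sum_congr rfl fun ψ _ => ?_
    rcases eq_or_ne ψ (trivIrr G) with e | e
    · simp [e, ht]
    · rw [Pi.smul_apply, smul_eq_mul, (vl_spec h e).1]; push_cast; ring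
  · rw [hn, Finset.sum_apply] at hd
    simp only [Pi.smul_apply, smul_eq_mul, deg_spec] at hd
    exact_mod_cast hd

/-- A character of degree at most four without principal constituent is not positive at `u`. -/
theorem small_nonpos (h : Hyp u) {Φ : G → ℂ} (hΦ : Cfsg.IsCharacter G Φ)
    (h0 : Cfsg.classInner Φ (fun _ => (1 : ℂ)) = 0) {d : ℕ} (hd : Φ 1 = (d : ℂ)) (hd4 : d ≤ 4)
    {k : ℤ} (hk : Φ u = (k : ℂ)) : k ≤ 0 := by
  classical
  haveI := Fintype.ofFinite (Cfsg.IrrCharacter G)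
  obtain ⟨n, ht, -, hu, hdeg⟩ := decompose h hΦ h0
  have hsum : k = ∑ ψ, (n ψ : ℤ) * vl u ψ := by rw [hk] at hu; exact_mod_cast hu
  rw [hsum]
  refine Finset.sum_nonpos fun ψ _ => ?_
  rcases Nat.eq_zero_or_pos (n ψ) with e | e
  · simp [e]
  have hne : ψ ≠ trivIrr G := fun e' => by rw [e', ht] at e; exact lt_irrefl _ e
  have hle : n ψ * deg ψ ≤ d := hdeg d hd ▸
    Finset.single_le_sum (f := fun φ => n φ * deg φ) (fun _ _ => Nat.zero_le _) (Finset.mem_univ ψ)
  have : deg ψ ≤ n ψ * deg ψ := Nat.le_mul_of_pos_left _ e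
  refine mul_nonpos_of_nonneg_of_nonpos (by positivity) ?_
  rcases (vl_spec h hne).2 with v | v <;> omega

/-- A character of degree five or six, positive at `u`, without principal constituent. -/
theorem irr_of_pos (h : Hyp u) {Φ : G → ℂ} (hΦ : Cfsg.IsCharacter G Φ)
    (h0 : Cfsg.classInner Φ (fun _ => (1 : ℂ)) = 0) {d : ℕ} (hd : Φ 1 = (d : ℂ)) (hd6 : d ≤ 6)
    {k : ℤ} (hk : Φ u = (k : ℂ)) (hkpos : 0 < k) : Cfsg.IsIrrCharacter G Φ := by
  classical
  haveI := Fintype.ofFinite (Cfsg.IrrCharacter G)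
  obtain ⟨n, ht, hn, hu, hdeg⟩ := decompose h hΦ h0
  have hsum : k = ∑ ψ, (n ψ : ℤ) * vl u ψ := by rw [hk] at hu; exact_mod_cast hu
  obtain ⟨ψ, hψ⟩ : ∃ ψ, 0 < (n ψ : ℤ) * vl u ψ := by
    by_contra hh
    push Not at hh
    have := Finset.sum_nonpos (s := Finset.univ) fun φ _ => hh φ
    omega
  have hn0 : 0 < n ψ := by
    rcases Nat.eq_zero_or_pos (n ψ) with e | e
    · simp [e] at hψ
    · exact e
  have hne : ψ ≠ trivIrr G := fun e' => by rw [e', ht] at hn0; exact lt_irrefl _ hn0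
  have h5 : 5 ≤ deg ψ := by
    rcases (vl_spec h hne).2 with v | v <;> rw [v] at hψ
    · simp at hψ
    · by_contra hlt
      push Not at hlt
      have : (n ψ : ℤ) * ((deg ψ : ℤ) - 4) ≤ 0 :=
        mul_nonpos_of_nonneg_of_nonpos (by positivity) (by omega)
      omega
  have hd' := hdeg d hd
  have hle : n ψ * deg ψ ≤ d := hd' ▸
    Finset.single_le_sum (f := fun φ => n φ * deg φ) (fun _ _ => Nat.zero_le _) (Finset.mem_univ ψ)
  have hn1 : n ψ = 1 := by nlinarith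
  have hother : ∀ φ, φ ≠ ψ → n φ = 0 := by
    intro φ hφ
    rcases Nat.eq_zero_or_pos (n φ) with e | e
    · exact e
    exfalso
    have hφt : φ ≠ trivIrr G := fun e' => by rw [e', ht] at e; exact lt_irrefl _ e
    have h2 := two_le_deg h hφt
    have := Finset.add_le_sum (f := fun φ => n φ * deg φ) (fun _ _ => Nat.zero_le _)
      (Finset.mem_univ φ) (Finset.mem_univ ψ) hφ
    rw [hd', hn1, one_mul] at this
    nlinarith
  rw [hn, Finset.sum_eq_single ψ (fun φ _ hφ => by simp [hother φ hφ]) (by simp), hn1, Nat.cast_one,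
    one_smul]
  exact ψ.2

theorem classInner_absSq_one (χ : Cfsg.IrrCharacter G) :
    Cfsg.classInner (absSq χ) (fun _ => (1 : ℂ)) = 1 := by
  refine Eq.trans ?_ (inner_self χ)
  rw [classInner_def, classInner_def]
  simp [absSq]

theorem absSq_isCharacter (χ : Cfsg.IrrCharacter G) : Cfsg.IsCharacter G (absSq χ) :=
  isCharacter_mul (irr_isCharacter χ) (irr_isCharacter (conjIrr χ))

theorem absSq_sub_isCharacter (χ : Cfsg.IrrCharacter G) :
    Cfsg.IsCharacter G (absSq χ - fun _ => (1 : ℂ)) :=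
  exists_sub_irr (absSq_isCharacter χ) isIrrCharacter_one (by rw [classInner_absSq_one]; exact one_ne_zero)

theorem classInner_absSq_sub_one (χ : Cfsg.IrrCharacter G) :
    Cfsg.classInner (absSq χ - fun _ => (1 : ℂ)) (fun _ => (1 : ℂ)) = 0 := by
  rw [classInner_sub_left, classInner_absSq_one, classInner_isIrr_self isIrrCharacter_one, sub_self]

theorem vl_deg_two (h : Hyp u) {χ : Cfsg.IrrCharacter G} (h2 : deg χ = 2) : vl u χ = 0 := by
  have hne : χ ≠ trivIrr G := ne_triv (by omega)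
  obtain ⟨hu, h0 | hv⟩ := vl_spec h hne
  · exact h0
  exfalso
  have := small_nonpos h (absSq_sub_isCharacter χ) (classInner_absSq_sub_one χ) (d := 3)
    (by simp [absSq, deg_spec, h2, map_ofNat]; norm_num) (by norm_num) (k := 3)
    (by simp [absSq, hu, hv, h2, map_ofNat]; norm_num)
  omega

/-- Degree three and value `-1` at `u`. -/
def InT (u : G) (χ : Cfsg.IrrCharacter G) : Prop := deg χ = 3 ∧ vl u χ = -1

omit [Fintype G] in
theorem InT.ne {χ : Cfsg.IrrCharacter G} (hχ : InT u χ) : χ ≠ trivIrr G :=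
  ne_triv (by rw [hχ.1]; norm_num)

omit [Fintype G] in
theorem InT.one {χ : Cfsg.IrrCharacter G} (hχ : InT u χ) : (χ : G → ℂ) 1 = 3 := by
  rw [deg_spec, hχ.1]; norm_num

omit [Fintype G] in
theorem InT.at_u {χ : Cfsg.IrrCharacter G} (h : Hyp u) (hχ : InT u χ) : (χ : G → ℂ) u = -1 := by
  rw [(vl_spec h hχ.ne).1, hχ.2]; norm_num

theorem term_nonneg (h : Hyp u) {χ : Cfsg.IrrCharacter G} (hχ : χ ≠ trivIrr G) (hT : ¬ InT u χ) :
    0 ≤ (deg χ : ℤ) * vl u χ := by
  have h2 := two_le_deg h hχ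
  rcases (vl_spec h hχ).2 with v | v
  · simp [v]
  rcases Nat.lt_or_ge (deg χ) 4 with h4 | h4
  · rcases (show deg χ = 2 ∨ deg χ = 3 by omega) with e | e
    · simp [vl_deg_two h e]
    · exact absurd ⟨e, by omega⟩ hT
  · exact mul_nonneg (by positivity) (by omega)

theorem column [Fintype (Cfsg.IrrCharacter G)] [DecidableEq (Cfsg.IrrCharacter G)] (h : Hyp u) :
    1 + ∑ χ ∈ Finset.univ.erase (trivIrr G), (deg χ : ℤ) * vl u χ = 0 := by
  classical
  have hs := second_orthogonality u (1 : G)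
  rw [if_neg (fun hc => h.ne (isConj_one_left.1 hc))] at hs
  rw [← Finset.add_sum_erase _ _ (Finset.mem_univ (trivIrr G))] at hs
  rw [Finset.sum_congr rfl (g := fun χ => (((deg χ : ℤ) * vl u χ : ℤ) : ℂ)) fun χ hχ => by
    rw [(vl_spec h (Finset.ne_of_mem_erase hχ)).1, deg_spec, Complex.conj_natCast]
    push_cast; ring] at hs
  simp only [trivIrr_coe, map_one, mul_one] at hs
  exact_mod_cast hs

open scoped _root_.Classical in
theorem count [Fintype (Cfsg.IrrCharacter G)] (h : Hyp u) (s : Finset (Cfsg.IrrCharacter G)) (c : ℕ)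
    (hc : 0 < c) (hs : ∀ φ ∈ s, φ ≠ trivIrr G ∧ (c : ℤ) ≤ (deg φ : ℤ) * vl u φ) :
    1 + c * s.card ≤ 3 * (Finset.univ.filter fun χ => InT u χ).card := by
  set T := Finset.univ.filter fun χ => InT u χ
  have hcol := column h
  have hsub : T ⊆ Finset.univ.erase (trivIrr G) := fun χ hχ =>
    Finset.mem_erase.2 ⟨(Finset.mem_filter.1 hχ).2.ne, Finset.mem_univ _⟩
  rw [← Finset.sum_sdiff hsub] at hcol
  have hT : ∑ χ ∈ T, (deg χ : ℤ) * vl u χ = -3 * (T.card : ℤ) := by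
    rw [Finset.sum_congr rfl fun χ hχ => by
      rw [(Finset.mem_filter.1 hχ).2.1, (Finset.mem_filter.1 hχ).2.2], Finset.sum_const, nsmul_eq_mul]
    push_cast; ring
  have hss : s ⊆ Finset.univ.erase (trivIrr G) \ T := fun φ hφ => by
    refine Finset.mem_sdiff.2 ⟨Finset.mem_erase.2 ⟨(hs φ hφ).1, Finset.mem_univ _⟩, fun hm => ?_⟩
    have h1 := (hs φ hφ).2
    rw [(Finset.mem_filter.1 hm).2.1, (Finset.mem_filter.1 hm).2.2] at h1
    omega
  have hbig : ∑ φ ∈ s, (c : ℤ) ≤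
      ∑ χ ∈ Finset.univ.erase (trivIrr G) \ T, (deg χ : ℤ) * vl u χ :=
    (Finset.sum_le_sum fun φ hφ => (hs φ hφ).2).trans
      (Finset.sum_le_sum_of_subset_of_nonneg hss fun χ hχ _ => term_nonneg h
        (Finset.mem_erase.1 (Finset.mem_sdiff.1 hχ).1).1
        fun hT' => (Finset.mem_sdiff.1 hχ).2 (Finset.mem_filter.2 ⟨Finset.mem_univ _, hT'⟩))
  rw [Finset.sum_const, nsmul_eq_mul] at hbig
  have : ((1 + c * s.card : ℕ) : ℤ) ≤ ((3 * T.card : ℕ) : ℤ) := by
    rw [hT] at hcol; push_cast; linarith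
  exact_mod_cast this

theorem exists_inT (h : Hyp u) : ∃ χ : Cfsg.IrrCharacter G, InT u χ := by
  classical
  haveI := Fintype.ofFinite (Cfsg.IrrCharacter G)
  have := count h ∅ 1 one_pos (by simp)
  obtain ⟨χ, hχ⟩ := Finset.card_pos.1 (show 0 < (Finset.univ.filter fun χ => InT u χ).card by omega)
  exact ⟨χ, (Finset.mem_filter.1 hχ).2⟩

/-! ## The square of a member of `InT` -/

theorem sq2_isCharacter (h : Hyp u) {χ : Cfsg.IrrCharacter G} (hχ : InT u χ) :
    Cfsg.IsCharacter G (sq2 χ) := by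
  have := isCharacter_symSquare (irr_isCharacter χ)
  convert this using 1
  funext g
  rw [sq2, square_eq (perfect h) (irr_isCharacter χ) hχ.one g]
  ring

theorem inner_conj_of_not_real {χ : Cfsg.IrrCharacter G} (hr : ¬ IsReal χ) :
    Cfsg.classInner (χ : G → ℂ) (conjIrr χ : G → ℂ) = 0 :=
  classInner_isIrr_ne χ.2 (conjIrr χ).2 fun e => hr fun g => by
    have := congrFun e g
    rw [conjIrr_coe] at this
    exact this.symm

theorem deg_conj (χ : Cfsg.IrrCharacter G) : deg (conjIrr χ) = deg χ :=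
  deg_eq (by rw [conjIrr_coe, deg_spec, Complex.conj_natCast])

theorem sq2_inner_one {χ : Cfsg.IrrCharacter G} (hχ : InT u χ) :
    Cfsg.classInner (sq2 χ) (fun _ => (1 : ℂ)) =
      Cfsg.classInner (χ : G → ℂ) (conjIrr χ : G → ℂ) := by
  have h1 : Cfsg.classInner (conjIrr χ : G → ℂ) (trivIrr G : G → ℂ) = 0 :=
    inner_deg_ne (by rw [deg_conj, hχ.1, deg_triv]; norm_num)
  have h2 : sq2 χ = (fun g => (χ : G → ℂ) g ^ 2) - (conjIrr χ : G → ℂ) := by
    funext g; simp [sq2]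
  rw [h2, classInner_sub_left]
  rw [trivIrr_coe] at h1
  rw [h1, sub_zero, classInner_def, classInner_def]
  simp [sq]

theorem exists_six (h : Hyp u) {χ : Cfsg.IrrCharacter G} (hχ : InT u χ) (hr : ¬ IsReal χ) :
    ∃ φ : Cfsg.IrrCharacter G, (φ : G → ℂ) = sq2 χ ∧ deg φ = 6 ∧ vl u φ = 2 := by
  have hu : sq2 χ u = ((2 : ℤ) : ℂ) := by simp [sq2, hχ.at_u h]; norm_num
  have h1 : sq2 χ 1 = ((6 : ℕ) : ℂ) := by simp [sq2, hχ.one, map_ofNat]; norm_num
  have hirr := irr_of_pos h (sq2_isCharacter h hχ)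
    ((sq2_inner_one hχ).trans (inner_conj_of_not_real hr)) h1 le_rfl hu two_pos
  have hd : deg (⟨_, hirr⟩ : Cfsg.IrrCharacter G) = 6 := deg_eq h1
  refine ⟨⟨_, hirr⟩, rfl, hd, ?_⟩
  have := (vl_spec h (ne_triv (χ := ⟨_, hirr⟩) (by rw [hd]; norm_num))).1
  simp only [hu] at this
  exact_mod_cast this.symm

theorem exists_five (h : Hyp u) {χ : Cfsg.IrrCharacter G} (hχ : InT u χ) (hr : IsReal χ) :
    ∃ φ : Cfsg.IrrCharacter G, (φ : G → ℂ) = sq2 χ - (fun _ => 1) ∧ deg φ = 5 ∧ vl u φ = 1 := by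
  have hc : (conjIrr χ : G → ℂ) = (χ : G → ℂ) := funext fun g => hr g
  have h0 : Cfsg.classInner (sq2 χ) (fun _ => (1 : ℂ)) = 1 := by
    rw [sq2_inner_one hχ, hc, inner_self]
  have hch := exists_sub_irr (sq2_isCharacter h hχ) isIrrCharacter_one (by rw [h0]; exact one_ne_zero)
  have hu : (sq2 χ - fun _ : G => (1 : ℂ)) u = ((1 : ℤ) : ℂ) := by simp [sq2, hχ.at_u h]
  have h1 : (sq2 χ - fun _ : G => (1 : ℂ)) 1 = ((5 : ℕ) : ℂ) := by
    simp [sq2, hχ.one, map_ofNat]; norm_num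
  have hirr := irr_of_pos h hch
    (by rw [classInner_sub_left, h0, classInner_isIrr_self isIrrCharacter_one, sub_self]) h1
    (by norm_num) hu one_pos
  have hd : deg (⟨_, hirr⟩ : Cfsg.IrrCharacter G) = 5 := deg_eq h1
  refine ⟨⟨_, hirr⟩, rfl, hd, ?_⟩
  have := (vl_spec h (ne_triv (χ := ⟨_, hirr⟩) (by rw [hd]; norm_num))).1
  simp only [hu] at this
  exact_mod_cast this.symm

theorem exists_eight (h : Hyp u) {χ : Cfsg.IrrCharacter G} (hχ : InT u χ) (hr : ¬ IsReal χ) :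
    ∃ η : Cfsg.IrrCharacter G, (η : G → ℂ) = absSq χ - (fun _ => 1) ∧ deg η = 8 := by
  obtain ⟨φ, hφ, hφd, -⟩ := exists_six h hχ hr
  have h2 : (fun g => (χ : G → ℂ) g ^ 2) = (φ : G → ℂ) + (conjIrr χ : G → ℂ) := by
    funext g; simp [hφ, sq2]
  have hn : Cfsg.classInner (absSq χ) (absSq χ) = 2 := by
    have e : Cfsg.classInner (absSq χ) (absSq χ) =
        Cfsg.classInner (fun g => (χ : G → ℂ) g ^ 2) (fun g => (χ : G → ℂ) g ^ 2) := by
      rw [classInner_def, classInner_def]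
      congr 1
      refine Finset.sum_congr rfl fun g _ => ?_
      simp [absSq]; ring
    rw [e, h2, classInner_add_left, classInner_add_right, classInner_add_right, inner_self,
      inner_self, inner_deg_ne (χ := φ) (θ := conjIrr χ) (by rw [deg_conj, hφd, hχ.1]; norm_num),
      inner_deg_ne (χ := conjIrr χ) (θ := φ) (by rw [deg_conj, hφd, hχ.1]; norm_num)]
    norm_num
  have hirr := isIrr_of_isCharacter_of_norm_one (absSq_sub_isCharacter χ) (by
    rw [classInner_sub_right, classInner_absSq_sub_one, classInner_sub_left,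
      classInner_conj_symm (absSq χ) (fun _ => (1 : ℂ)), hn, classInner_absSq_one, map_one]
    norm_num)
  exact ⟨⟨_, hirr⟩, rfl, deg_eq (by simp [absSq, hχ.one, map_ofNat]; norm_num)⟩

theorem absSq_inner_ne_one (h : Hyp u) {χ θ : Cfsg.IrrCharacter G} (hχ : InT u χ) (hθ : InT u θ) :
    Cfsg.classInner (absSq χ) (absSq θ) ≠ 1 := by
  intro e
  let F : G → ℂ := (conjIrr χ : G → ℂ) * (θ : G → ℂ)
  have hirr : Cfsg.IsIrrCharacter G F :=
    isIrr_of_isCharacter_of_norm_one (isCharacter_mul (irr_isCharacter _) (irr_isCharacter _)) (by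
      rw [← e, classInner_def, classInner_def]
      congr 1
      refine Finset.sum_congr rfl fun g _ => ?_
      simp [F, absSq]; ring)
  have hd : deg (⟨F, hirr⟩ : Cfsg.IrrCharacter G) = 9 :=
    deg_eq (by simp [F, hχ.one, hθ.one, map_ofNat]; norm_num)
  obtain ⟨hu, hv⟩ := vl_spec h (ne_triv (χ := ⟨F, hirr⟩) (by rw [hd]; norm_num))
  have : vl u (⟨F, hirr⟩ : Cfsg.IrrCharacter G) = 1 := by
    have h2 : F u = 1 := by simp [F, hχ.at_u h, hθ.at_u h]
    simp only [h2] at hu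
    exact_mod_cast hu.symm
  rw [this, hd] at hv
  omega

omit [Fintype G] in
theorem absSq_real {χ φ : Cfsg.IrrCharacter G} (hr : IsReal χ)
    (hφ : (φ : G → ℂ) = sq2 χ - fun _ => 1) :
    absSq χ = (trivIrr G : G → ℂ) + (χ : G → ℂ) + (φ : G → ℂ) := by
  funext g
  simp [absSq, hφ, sq2, hr g]; ring

theorem real_iff (h : Hyp u) {χ θ : Cfsg.IrrCharacter G} (hχ : InT u χ) (hθ : InT u θ)
    (hr : IsReal χ) : IsReal θ := by
  by_contra hn
  obtain ⟨φ, hφ, hφd, -⟩ := exists_five h hχ hr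
  obtain ⟨η, hη, hηd⟩ := exists_eight h hθ hn
  have hθ' : absSq θ = (trivIrr G : G → ℂ) + (η : G → ℂ) := by funext g; simp [hη]
  refine absSq_inner_ne_one h hχ hθ ?_
  rw [absSq_real hr hφ, hθ']
  simp only [classInner_add_left, classInner_add_right, inner_self]
  rw [inner_deg_ne (χ := χ) (θ := trivIrr G) (by rw [hχ.1, deg_triv]; norm_num),
    inner_deg_ne (χ := φ) (θ := trivIrr G) (by rw [hφd, deg_triv]; norm_num),
    inner_deg_ne (χ := trivIrr G) (θ := η) (by rw [hηd, deg_triv]; norm_num),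
    inner_deg_ne (χ := χ) (θ := η) (by rw [hχ.1, hηd]; norm_num),
    inner_deg_ne (χ := φ) (θ := η) (by rw [hφd, hηd]; norm_num)]
  norm_num

theorem sq2_real_eq (h : Hyp u) {χ θ : Cfsg.IrrCharacter G} (hχ : InT u χ) (hθ : InT u θ)
    (hr : IsReal χ) (hne : χ ≠ θ) : sq2 χ = sq2 θ := by
  obtain ⟨φ, hφ, hφd, -⟩ := exists_five h hχ hr
  obtain ⟨ψ, hψ, hψd, -⟩ := exists_five h hθ (real_iff h hχ hθ hr)
  by_contra hne'
  refine absSq_inner_ne_one h hχ hθ ?_
  rw [absSq_real hr hφ, absSq_real (real_iff h hχ hθ hr) hψ]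
  simp only [classInner_add_left, classInner_add_right, inner_self]
  rw [inner_deg_ne (χ := χ) (θ := trivIrr G) (by rw [hχ.1, deg_triv]; norm_num),
    inner_deg_ne (χ := φ) (θ := trivIrr G) (by rw [hφd, deg_triv]; norm_num),
    inner_deg_ne (χ := trivIrr G) (θ := θ) (by rw [hθ.1, deg_triv]; norm_num),
    inner_deg_ne (χ := trivIrr G) (θ := ψ) (by rw [hψd, deg_triv]; norm_num),
    inner_deg_ne (χ := φ) (θ := θ) (by rw [hφd, hθ.1]; norm_num),
    inner_deg_ne (χ := χ) (θ := ψ) (by rw [hχ.1, hψd]; norm_num),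
    classInner_isIrr_ne χ.2 θ.2 (fun e => hne (Subtype.ext e)),
    classInner_isIrr_ne φ.2 ψ.2 (fun e => hne' (by
      funext g
      have := congrFun e g
      rw [hφ, hψ] at this
      simpa using this))]
  norm_num

theorem absSq_eq (h : Hyp u) {χ θ : Cfsg.IrrCharacter G} (hχ : InT u χ) (hθ : InT u θ)
    (hχr : ¬ IsReal χ) : absSq χ = absSq θ := by
  obtain ⟨η, hη, hηd⟩ := exists_eight h hχ hχr
  obtain ⟨ζ, hζ, hζd⟩ := exists_eight h hθ fun hr => hχr (real_iff h hθ hχ hr)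
  by_contra hne
  have e1 : absSq χ = (trivIrr G : G → ℂ) + (η : G → ℂ) := by funext g; simp [hη]
  have e2 : absSq θ = (trivIrr G : G → ℂ) + (ζ : G → ℂ) := by funext g; simp [hζ]
  refine absSq_inner_ne_one h hχ hθ ?_
  rw [e1, e2]
  simp only [classInner_add_left, classInner_add_right, inner_self]
  rw [inner_deg_ne (χ := η) (θ := trivIrr G) (by rw [hηd, deg_triv]; norm_num),
    inner_deg_ne (χ := trivIrr G) (θ := ζ) (by rw [hζd, deg_triv]; norm_num),
    classInner_isIrr_ne η.2 ζ.2 (fun e => hne (by rw [e1, e2, e]))]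
  norm_num

end Cfsg.Agent.CharTheory.DegreeThree
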