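import Mathlib
import Cfsg.Agent.Lib.CharTheory.DegreeThree.Constant

/-!
# The characters of degree three are real and their kernel has index sixty
-/

set_option autoImplicit false
set_option linter.style.haveILetI false

namespace Cfsg.Agent.CharTheory.DegreeThree

open Cfsg.Agent.Characters
open Cfsg.Agent.FrobeniusSchur (conjIrr conjIrr_coe)
open scoped ComplexConjugate
open Complex (normSq)

universe u

variable {G : Type u} [Group G] [Fintype G] {u : G}

theorem rel_of_not_real (h : Hyp u) {χ θ : Cfsg.IrrCharacter G} (hχ : InT u χ) (hθ : InT u θ)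
    (hr : ¬ IsReal χ) (he : sq2 χ = sq2 θ) (g : G) :
    Pointwise.Rel ((χ : G → ℂ) g) ((θ : G → ℂ) g) := by
  refine ⟨congrFun he g, ?_, congrFun (absSq_eq h hχ hθ hr) g⟩
  rw [← square_eq (perfect h) (irr_isCharacter χ) hχ.one g,
    ← square_eq (perfect h) (irr_isCharacter θ) hθ.one g]
  exact congrFun he (g * g)

theorem sum_cube (h : Hyp u) {χ : Cfsg.IrrCharacter G} (hχ : InT u χ) (hr : ¬ IsReal χ) :
    ∑ g : G, (χ : G → ℂ) g ^ 3 = (Nat.card G : ℂ) := by
  obtain ⟨φ, hφ, hφd, -⟩ := exists_six h hχ hr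
  have h2 : (fun g => (χ : G → ℂ) g ^ 2) = (φ : G → ℂ) + (conjIrr χ : G → ℂ) := by
    funext g; simp [hφ, sq2]
  have hi : Cfsg.classInner (fun g => (χ : G → ℂ) g ^ 2) (conjIrr χ : G → ℂ) = 1 := by
    rw [h2, classInner_add_left, inner_self,
      inner_deg_ne (χ := φ) (θ := conjIrr χ) (by rw [deg_conj, hφd, hχ.1]; norm_num), zero_add]
  rw [← mul_one (Nat.card G : ℂ), ← sum_eq_card_mul hi]
  refine Finset.sum_congr rfl fun g _ => ?_
  simp; ring

theorem sum_normSq_sub {χ θ : Cfsg.IrrCharacter G} (hne : χ ≠ θ) :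
    ∑ g : G, normSq ((χ : G → ℂ) g - (θ : G → ℂ) g) = 2 * (Nat.card G : ℝ) := by
  have hi : Cfsg.classInner ((χ : G → ℂ) - (θ : G → ℂ)) ((χ : G → ℂ) - (θ : G → ℂ)) = 2 := by
    rw [classInner_sub_left, classInner_sub_right, classInner_sub_right, inner_self, inner_self,
      classInner_isIrr_ne χ.2 θ.2 (fun e => hne (Subtype.ext e)),
      classInner_isIrr_ne θ.2 χ.2 (fun e => hne (Subtype.ext e).symm)]
    norm_num
  have h1 := sum_eq_card_mul hi
  simp only [Pi.sub_apply, Complex.mul_conj, ← Complex.ofReal_sum] at h1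
  have h2 := congrArg Complex.re h1
  simp only [Complex.ofReal_re, Complex.mul_re, Complex.natCast_re, Complex.natCast_im] at h2
  rw [h2]; norm_num; ring

theorem no_three (h : Hyp u) {χ θ τ : Cfsg.IrrCharacter G} (hχ : InT u χ) (hθ : InT u θ)
    (hτ : InT u τ) (hr : ¬ IsReal χ) (h1 : χ ≠ θ) (h2 : θ ≠ τ) (h3 : χ ≠ τ)
    (e1 : sq2 χ = sq2 θ) (e2 : sq2 θ = sq2 τ) : False := by
  have hθr : ¬ IsReal θ := fun hh => hr (real_iff h hθ hχ hh)
  have hτr : ¬ IsReal τ := fun hh => hr (real_iff h hτ hχ hh)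
  obtain ⟨k, hk⟩ := classInner_char_nat (isCharacter_mul (irr_isCharacter χ) (irr_isCharacter θ))
    (irr_isCharacter (conjIrr τ))
  have hk' := sum_eq_card_mul hk
  simp only [Pi.mul_apply, conjIrr_coe, Complex.conj_conj] at hk'
  have hpt : ∀ g : G, ((χ : G → ℂ) g * (θ : G → ℂ) g * (τ : G → ℂ) g).re =
      (((χ : G → ℂ) g ^ 3).re + ((θ : G → ℂ) g ^ 3).re + ((τ : G → ℂ) g ^ 3).re) / 3 -
      (normSq ((χ : G → ℂ) g - (θ : G → ℂ) g) + normSq ((θ : G → ℂ) g - (τ : G → ℂ) g) +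
        normSq ((χ : G → ℂ) g - (τ : G → ℂ) g)) / 4 := fun g =>
    Pointwise.triple (rel_of_not_real h hχ hθ hr e1 g) (rel_of_not_real h hθ hτ hθr e2 g)
      (rel_of_not_real h hχ hτ hr (e1.trans e2) g)
  have hs := congrArg Complex.re hk'
  rw [Complex.re_sum, Finset.sum_congr rfl fun g _ => hpt g] at hs
  simp only [Finset.sum_sub_distrib, ← Finset.sum_div, Finset.sum_add_distrib, ← Complex.re_sum,
    sum_cube h hχ hr, sum_cube h hθ hθr, sum_cube h hτ hτr, sum_normSq_sub h1, sum_normSq_sub h2,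
    sum_normSq_sub h3, Complex.natCast_re, Complex.mul_re, Complex.natCast_im] at hs
  have hN : (0 : ℝ) < (Nat.card G : ℝ) := Nat.cast_pos.2 Nat.card_pos
  have hk0 : (0 : ℝ) ≤ (k : ℝ) := Nat.cast_nonneg k
  nlinarith

theorem all_real (h : Hyp u) {χ : Cfsg.IrrCharacter G} (hχ : InT u χ) : IsReal χ := by
  classical
  by_contra hr
  haveI := Fintype.ofFinite (Cfsg.IrrCharacter G)
  set T := Finset.univ.filter fun θ => InT u θ with hT
  have hTr : ∀ θ ∈ T, ¬ IsReal θ := fun θ hθ hh =>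
    hr (real_iff h (Finset.mem_filter.1 hθ).2 hχ hh)
  let F : Cfsg.IrrCharacter G → Cfsg.IrrCharacter G := fun θ =>
    if hθ : InT u θ ∧ ¬ IsReal θ then Classical.choose (exists_six h hθ.1 hθ.2) else θ
  have hF : ∀ θ ∈ T, (F θ : G → ℂ) = sq2 θ ∧ deg (F θ) = 6 ∧ vl u (F θ) = 2 := by
    intro θ hθ
    have hθ' : InT u θ ∧ ¬ IsReal θ := ⟨(Finset.mem_filter.1 hθ).2, hTr θ hθ⟩
    simp only [F, dif_pos hθ']
    exact Classical.choose_spec (exists_six h hθ'.1 hθ'.2)
  have hfib : ∀ φ ∈ T.image F, (T.filter fun θ => F θ = φ).card ≤ 2 := by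
    intro φ _
    by_contra hlt
    push Not at hlt
    obtain ⟨a, b, c, ha, hb, hc, hab, hac, hbc⟩ := Finset.two_lt_card_iff.1 hlt
    simp only [Finset.mem_filter] at ha hb hc
    have hs : ∀ {p q : Cfsg.IrrCharacter G}, p ∈ T ∧ F p = φ → q ∈ T ∧ F q = φ → sq2 p = sq2 q :=
      fun hp hq => (hF _ hp.1).1.symm.trans ((congrArg Subtype.val (hp.2.trans hq.2.symm)).trans
        (hF _ hq.1).1)
    exact no_three h (Finset.mem_filter.1 ha.1).2 (Finset.mem_filter.1 hb.1).2
      (Finset.mem_filter.1 hc.1).2 (hTr a ha.1) hab hbc hac (hs ha hb) (hs hb hc)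
  have h1 := Finset.card_le_mul_card_image T 2 hfib
  have h2 := count h (T.image F) 12 (by norm_num) fun φ hφ => by
    obtain ⟨θ, hθ, rfl⟩ := Finset.mem_image.1 hφ
    obtain ⟨-, e6, e2⟩ := hF θ hθ
    exact ⟨ne_triv (by rw [e6]; norm_num), by rw [e6, e2]; norm_num⟩
  rw [← hT] at h2
  omega

theorem exists_partner (h : Hyp u) {χ : Cfsg.IrrCharacter G} (hχ : InT u χ) :
    ∃ θ : Cfsg.IrrCharacter G, InT u θ ∧ χ ≠ θ := by
  classical
  haveI := Fintype.ofFinite (Cfsg.IrrCharacter G)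
  obtain ⟨φ, -, hφd, hφv⟩ := exists_five h hχ (all_real h hχ)
  have h1 := count h {φ} 5 (by norm_num) fun ψ hψ => by
    rw [Finset.mem_singleton.1 hψ]
    exact ⟨ne_triv (by rw [hφd]; norm_num), by rw [hφd, hφv]; norm_num⟩
  rw [Finset.card_singleton] at h1
  obtain ⟨θ, hθ, hne⟩ := Finset.exists_mem_ne
    (show 1 < (Finset.univ.filter fun θ => InT u θ).card by omega) χ
  exact ⟨θ, (Finset.mem_filter.1 hθ).2, hne.symm⟩

/-- The real value. -/
noncomputable def rv (χ : Cfsg.IrrCharacter G) (g : G) : ℝ := ((χ : G → ℂ) g).re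

omit [Fintype G] in
theorem rv_spec {χ : Cfsg.IrrCharacter G} (hr : IsReal χ) (g : G) :
    (χ : G → ℂ) g = (rv χ g : ℂ) := (Complex.conj_eq_iff_re.1 (hr g)).symm

theorem rv_square (h : Hyp u) {χ : Cfsg.IrrCharacter G} (hχ : InT u χ) (g : G) :
    rv χ (g * g) = rv χ g ^ 2 - 2 * rv χ g := by
  have := square_eq (perfect h) (irr_isCharacter χ) hχ.one g
  rw [rv_spec (all_real h hχ), rv_spec (all_real h hχ) g, Complex.conj_ofReal] at this
  exact_mod_cast this

theorem rv_bounds (h : Hyp u) {χ : Cfsg.IrrCharacter G} (hχ : InT u χ) (g : G) :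
    -1 ≤ rv χ g ∧ rv χ g ≤ 3 := by
  have hle : ∀ x : G, rv χ x ≤ 3 := fun x => by
    have h1 := char_norm_le (irr_isCharacter χ) x
    rw [hχ.one] at h1
    have h2 := Complex.re_le_norm ((χ : G → ℂ) x)
    norm_num at h1
    exact le_trans h2 h1
  refine ⟨?_, hle g⟩
  have := hle (g * g)
  rw [rv_square h hχ g] at this
  nlinarith [hle g]

theorem moments (h : Hyp u) {χ : Cfsg.IrrCharacter G} (hχ : InT u χ) :
    ∑ g : G, rv χ g ^ 2 = (Nat.card G : ℝ) ∧ ∑ g : G, rv χ g ^ 3 = (Nat.card G : ℝ) ∧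
      ∑ g : G, rv χ g ^ 4 = 3 * (Nat.card G : ℝ) := by
  have hr := all_real h hχ
  obtain ⟨φ, hφ, hφd, -⟩ := exists_five h hχ hr
  have h2 : (fun g => (χ : G → ℂ) g ^ 2) =
      (trivIrr G : G → ℂ) + (χ : G → ℂ) + (φ : G → ℂ) := by
    rw [← absSq_real hr hφ]
    funext g; simp [absSq, hr g, sq]
  have o1 := inner_deg_ne (χ := χ) (θ := trivIrr G) (by rw [hχ.1, deg_triv]; norm_num)
  have o2 := inner_deg_ne (χ := trivIrr G) (θ := χ) (by rw [hχ.1, deg_triv]; norm_num)
  have o3 := inner_deg_ne (χ := φ) (θ := trivIrr G) (by rw [hφd, deg_triv]; norm_num)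
  have o4 := inner_deg_ne (χ := trivIrr G) (θ := φ) (by rw [hφd, deg_triv]; norm_num)
  have o5 := inner_deg_ne (χ := χ) (θ := φ) (by rw [hχ.1, hφd]; norm_num)
  have o6 := inner_deg_ne (χ := φ) (θ := χ) (by rw [hχ.1, hφd]; norm_num)
  have i2 : Cfsg.classInner (χ : G → ℂ) (χ : G → ℂ) = 1 := inner_self χ
  have i3 : Cfsg.classInner (fun g => (χ : G → ℂ) g ^ 2) (χ : G → ℂ) = 1 := by
    rw [h2]
    simp only [classInner_add_left, o2, o6, inner_self]
    norm_num
  have i4 : Cfsg.classInner (fun g => (χ : G → ℂ) g ^ 2) (fun g => (χ : G → ℂ) g ^ 2) = 3 := by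
    rw [h2]
    simp only [classInner_add_left, classInner_add_right, o1, o2, o3, o4, o5, o6, inner_self]
    norm_num
  refine ⟨?_, ?_, ?_⟩
  · have := sum_eq_card_mul i2
    simp only [rv_spec hr, Complex.conj_ofReal, ← Complex.ofReal_mul, ← Complex.ofReal_sum,
      mul_one] at this
    rw [Finset.sum_congr rfl fun g _ => pow_two (rv χ g)]
    exact_mod_cast this
  · have := sum_eq_card_mul i3
    simp only [rv_spec hr, Complex.conj_ofReal, ← Complex.ofReal_pow, ← Complex.ofReal_mul,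
      ← Complex.ofReal_sum, mul_one] at this
    rw [Finset.sum_congr rfl fun g _ => pow_succ (rv χ g) 2]
    exact_mod_cast this
  · have := sum_eq_card_mul i4
    simp only [rv_spec hr, Complex.conj_ofReal, ← Complex.ofReal_pow, ← Complex.ofReal_mul,
      ← Complex.ofReal_sum] at this
    rw [Finset.sum_congr rfl fun g _ =>
      show rv χ g ^ 4 = rv χ g ^ 2 * rv χ g ^ 2 by ring]
    rw [mul_comm (3 : ℝ)]
    exact_mod_cast this

theorem rv_pair (h : Hyp u) {χ θ : Cfsg.IrrCharacter G} (hχ : InT u χ) (hθ : InT u θ)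
    (hne : χ ≠ θ) {g : G} (hg : rv χ g ≠ rv θ g) :
    rv θ g = 1 - rv χ g ∧ rv χ g ^ 2 = rv χ g + 1 := by
  have he := sq2_real_eq h hχ hθ (all_real h hχ) hne
  have key : ∀ x : G, rv χ x ^ 2 - rv χ x = rv θ x ^ 2 - rv θ x := fun x => by
    have := congrFun he x
    simp only [sq2, rv_spec (all_real h hχ), rv_spec (all_real h hθ), Complex.conj_ofReal] at this
    exact_mod_cast this
  have := key (g * g)
  rw [rv_square h hχ, rv_square h hθ] at this
  exact Pointwise.real_pair (key g) this hg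

theorem sum_sub_sq (h : Hyp u) {χ θ : Cfsg.IrrCharacter G} (hχ : InT u χ) (hθ : InT u θ)
    (hne : χ ≠ θ) : ∑ g : G, (rv χ g - rv θ g) ^ 2 = 2 * (Nat.card G : ℝ) := by
  rw [← sum_normSq_sub hne]
  refine Finset.sum_congr rfl fun g _ => ?_
  rw [rv_spec (all_real h hχ) g, rv_spec (all_real h hθ) g, ← Complex.ofReal_sub,
    Complex.normSq_ofReal, sq]

/-- The same set `{χ = 3}` for two members, and it has index sixty. -/
theorem kernel_index (h : Hyp u) {χ θ : Cfsg.IrrCharacter G} (hχ : InT u χ) (hθ : InT u θ)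
    (hne : χ ≠ θ) :
    (∀ g, rv χ g = 3 → rv θ g = 3) ∧
      Nat.card G = 60 * (Finset.univ.filter fun g : G => rv χ g = 3).card := by
  classical
  obtain ⟨a2, a3, a4⟩ := moments h hχ
  obtain ⟨b2, b3, b4⟩ := moments h hθ
  set A := rv χ
  set B := rv θ
  have hpair : ∀ g, A g ≠ B g → B g = 1 - A g ∧ A g ^ 2 = A g + 1 := fun g hg =>
    rv_pair h hχ hθ hne hg
  have hDA : ∀ g, A g = 3 → A g = B g := fun g e => by
    by_contra hh
    have := (hpair g hh).2
    rw [e] at this; norm_num at this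
  refine ⟨fun g e => (hDA g e) ▸ e, ?_⟩
  set D := Finset.univ.filter fun g : G => A g ≠ B g
  set E := Finset.univ.filter fun g : G => ¬ (A g ≠ B g)
  have hsplit : ∀ f : G → ℝ, ∑ g ∈ D, f g + ∑ g ∈ E, f g = ∑ g, f g := fun f =>
    Finset.sum_filter_add_sum_filter_not _ _ _
  have hD : ∀ g ∈ D, B g = 1 - A g ∧ A g ^ 2 = A g + 1 := fun g hg =>
    hpair g (Finset.mem_filter.1 hg).2
  have hE : ∀ g ∈ E, B g = A g := fun g hg => (not_not.1 (Finset.mem_filter.1 hg).2).symm
  have eD : (5 : ℝ) * D.card = 2 * (Nat.card G : ℝ) := by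
    rw [← sum_sub_sq h hχ hθ hne, ← hsplit,
      Finset.sum_congr rfl (g := fun _ => (5 : ℝ)) fun g hg => by
        obtain ⟨e1, e2⟩ := hD g hg
        change (A g - B g) ^ 2 = 5
        rw [e1]; linear_combination 4 * e2,
      Finset.sum_eq_zero (s := E) fun g hg => by
        change (A g - B g) ^ 2 = 0
        rw [hE g hg]; ring, Finset.sum_const, nsmul_eq_mul]
    ring
  let P : ℝ → ℝ := fun a => (a + 1) * (3 - a) * a ^ 2
  let Q : ℝ → ℝ := fun a => a ^ 2 * (a + 1)
  have sP : ∑ g, (P (A g) + P (B g)) = 4 * (Nat.card G : ℝ) := by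
    rw [Finset.sum_congr rfl fun g _ => show P (A g) + P (B g) =
      -(A g ^ 4) + 2 * A g ^ 3 + 3 * A g ^ 2 + (-(B g ^ 4) + 2 * B g ^ 3 + 3 * B g ^ 2) by
        simp only [P]; ring]
    simp only [Finset.sum_add_distrib, Finset.sum_neg_distrib, ← Finset.mul_sum, a2, a3, a4, b2, b3,
      b4]
    ring
  have sQ : ∑ g, (Q (A g) + Q (B g)) = 4 * (Nat.card G : ℝ) := by
    rw [Finset.sum_congr rfl fun g _ => show Q (A g) + Q (B g) =
      A g ^ 3 + A g ^ 2 + (B g ^ 3 + B g ^ 2) by simp only [Q]; ring]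
    simp only [Finset.sum_add_distrib, a2, a3, b2, b3]
    ring
  have dP : ∀ g ∈ D, P (A g) + P (B g) = 10 := fun g hg => by
    obtain ⟨e1, e2⟩ := hD g hg
    simp only [P]; rw [e1]
    linear_combination (-2 * A g ^ 2 + 2 * A g + 6) * e2
  have dQ : ∀ g ∈ D, Q (A g) + Q (B g) = 7 := fun g hg => by
    obtain ⟨e1, e2⟩ := hD g hg
    simp only [Q]; rw [e1]
    linear_combination (5 : ℝ) * e2
  have zero : ∑ g ∈ E, (P (A g) + P (B g)) = 0 := by
    have := hsplit fun g => P (A g) + P (B g)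
    rw [sP, Finset.sum_congr rfl dP, Finset.sum_const, nsmul_eq_mul] at this
    linarith
  have hval : ∀ g ∈ E, A g = -1 ∨ A g = 0 ∨ A g = 3 := by
    intro g hg
    have hnn : ∀ x ∈ E, 0 ≤ P (A x) + P (B x) := fun x hx => by
      obtain ⟨l, r⟩ := rv_bounds h hχ x
      rw [hE x hx]
      have : 0 ≤ P (A x) := mul_nonneg (mul_nonneg (by linarith) (by linarith)) (sq_nonneg _)
      linarith
    have := (Finset.sum_eq_zero_iff_of_nonneg hnn).1 zero g hg
    rw [hE g hg] at this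
    have h0 : P (A g) = 0 := by linarith
    simp only [P, mul_eq_zero, pow_eq_zero_iff two_ne_zero] at h0
    rcases h0 with (e | e) | e
    · exact Or.inl (by linarith)
    · exact Or.inr (Or.inr (by linarith))
    · exact Or.inr (Or.inl e)
  have eQ : ∑ g ∈ E, (Q (A g) + Q (B g)) =
      72 * ((Finset.univ.filter fun g : G => A g = 3).card : ℝ) := by
    rw [show (Finset.univ.filter fun g : G => A g = 3) = E.filter fun g => A g = 3 by
      ext g
      simp only [E, Finset.mem_filter, Finset.mem_univ, true_and, not_not]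
      exact ⟨fun e => ⟨hDA g e, e⟩, fun e => e.2⟩]
    rw [Finset.sum_congr rfl (g := fun g => if A g = 3 then (72 : ℝ) else 0) fun g hg => by
      rw [hE g hg]
      rcases hval g hg with e | e | e <;> rw [e] <;> norm_num [Q],
      ← Finset.sum_filter, Finset.sum_const, nsmul_eq_mul]
    ring
  have := hsplit fun g => Q (A g) + Q (B g)
  rw [sQ, Finset.sum_congr rfl dQ, eQ, Finset.sum_const, nsmul_eq_mul] at this
  have fin : (Nat.card G : ℝ) =
      ((60 * (Finset.univ.filter fun g : G => A g = 3).card : ℕ) : ℝ) := by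
    push_cast; linarith
  exact_mod_cast fin

end Cfsg.Agent.CharTheory.DegreeThree
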