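import Mathlib
import Cfsg.Agent.Lib.CharTheory.DegreeThree.Moments

/-!
# The quotient `A₅`, the classes above an involution and the centralizer of `u`
-/

set_option autoImplicit false
set_option linter.style.haveILetI false

namespace Cfsg.Agent.CharTheory.DegreeThree

open Cfsg.Agent.Characters
open scoped ComplexConjugate

theorem perfect_quotient {G : Type*} [Group G] (h : commutator G = ⊤) (K : Subgroup G) [K.Normal] :
    commutator (G ⧸ K) = ⊤ := by
  have := congrArg (Subgroup.map (QuotientGroup.mk' K)) h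
  rwa [commutator_def, Subgroup.map_commutator,
    Subgroup.map_top_of_surjective _ (QuotientGroup.mk'_surjective K), ← commutator_def] at this

theorem not_solvable_of_perfect {G : Type*} [Group G] [Nontrivial G] (h : commutator G = ⊤) :
    ¬ Group.IsSolvable G := fun hs => by
  haveI := hs
  exact absurd h (ne_of_lt (Group.IsSolvable.commutator_lt_top_of_nontrivial G))

theorem simple_of_perfect_sixty {G : Type*} [Group G] [Finite G] (hc : Nat.card G = 60)
    (h : commutator G = ⊤) : IsSimpleGroup G := by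
  haveI : Nontrivial G := Finite.one_lt_card_iff_nontrivial.1 (by omega)
  refine ⟨fun N hN => ?_⟩
  by_contra hh
  push Not at hh
  have hmul := Subgroup.card_eq_card_quotient_mul_card_subgroup N
  have h1 : 1 < Nat.card N := (Subgroup.one_lt_card_iff_ne_bot N).2 hh.1
  have h2 : 1 < Nat.card (G ⧸ N) := by
    have h0 : N.index ≠ 0 := Subgroup.index_ne_zero_of_finite
    have h1 : N.index ≠ 1 := fun e => hh.2 (Subgroup.index_eq_one.1 e)
    change 1 < N.index
    omega
  haveI : Group.IsSolvable N := Recognition.OrderSixty.isSolvable_of_card_lt (by nlinarith)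
  haveI : Group.IsSolvable (G ⧸ N) := Recognition.OrderSixty.isSolvable_of_card_lt (by nlinarith)
  exact not_solvable_of_perfect h (solvable_of_ker_le_range N.subtype (QuotientGroup.mk' N) (by simp))

theorem alt_centralizer_card (i : alternatingGroup (Fin 5)) (h1 : i * i = 1) (h2 : i ≠ 1) :
    Nat.card (Subgroup.centralizer ({i} : Set (alternatingGroup (Fin 5)))) = 4 := by
  have key : ∀ i : alternatingGroup (Fin 5), i * i = 1 → i ≠ 1 →
      (Finset.univ.filter fun g : alternatingGroup (Fin 5) => g * i = i * g).card = 4 := by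
    decide +kernel
  haveI : Fintype (Subgroup.centralizer ({i} : Set (alternatingGroup (Fin 5)))) := Fintype.ofFinite _
  rw [← key i h1 h2, Nat.card_eq_fintype_card]
  rw [← Fintype.card_subtype]
  exact Fintype.card_congr (Equiv.subtypeEquivRight fun g => Subgroup.mem_centralizer_singleton_iff)

theorem alt_involutions_conj : ∀ i j : alternatingGroup (Fin 5),
    i * i = 1 → i ≠ 1 → j * j = 1 → j ≠ 1 → ∃ g, g * i * g⁻¹ = j := by
  decide +kernel

theorem alt_centralizer_exp : ∀ i : alternatingGroup (Fin 5), i * i = 1 → i ≠ 1 →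
    ∀ g : alternatingGroup (Fin 5), g * i = i * g → g * g = 1 := by
  decide +kernel

universe u

variable {G : Type u} [Group G] [Fintype G] {u : G}

/-- The character part: a map onto `A₅`, the centralizer of `u` and the classes above involutions. -/
theorem exists_alt_quotient (h : Hyp u) :
    ∃ π : G →* alternatingGroup (Fin 5), Function.Surjective π ∧ π u ≠ 1 ∧ π u * π u = 1 ∧
      Nat.card (Subgroup.centralizer ({u} : Set G)) = 4 ∧
      ∀ x : G, π x ≠ 1 → π x * π x = 1 → IsConj x u := by
  classical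
  haveI := Fintype.ofFinite (Cfsg.IrrCharacter G)
  obtain ⟨χ, hχ⟩ := exists_inT h
  obtain ⟨θ, hθ, hne⟩ := exists_partner h hχ
  set K := charKernel (χ : G → ℂ) (irr_isCharacter χ) with hK
  haveI : K.Normal := charKernel_normal (irr_isCharacter χ)
  have hmem : ∀ g, g ∈ K ↔ rv χ g = 3 := fun g => by
    rw [hK, mem_charKernel, hχ.one, rv_spec (all_real h hχ) g]
    exact_mod_cast Iff.rfl
  have hker : ∀ τ, InT u τ → ∀ g ∈ K, (τ : G → ℂ) g = (τ : G → ℂ) 1 := by
    intro τ hτ g hg
    rcases eq_or_ne χ τ with rfl | e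
    · exact hg
    · rw [rv_spec (all_real h hτ) g, hτ.one, (kernel_index h hχ hτ e).1 g ((hmem g).1 hg)]
      simp
  have hcard : Nat.card (G ⧸ K) = 60 := by
    have h1 := (kernel_index h hχ hθ hne).2
    have h2 := Subgroup.card_eq_card_quotient_mul_card_subgroup K
    have h3 : (Finset.univ.filter fun g : G => rv χ g = 3).card = Nat.card K := by
      rw [Nat.card_eq_fintype_card, ← Fintype.card_subtype]
      exact Fintype.card_congr (Equiv.subtypeEquivRight fun g => (hmem g).symm)
    rw [h3, h2] at h1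
    exact Nat.eq_of_mul_eq_mul_right Nat.card_pos h1
  haveI := simple_of_perfect_sixty hcard (perfect_quotient (perfect h) K)
  obtain ⟨e⟩ := S0494.result hcard
  set π : G →* alternatingGroup (Fin 5) := e.toMonoidHom.comp (QuotientGroup.mk' K)
  have hπ1 : ∀ g, π g = 1 ↔ g ∈ K := fun g => by
    change e (QuotientGroup.mk g) = 1 ↔ _
    rw [map_eq_one_iff e e.injective, QuotientGroup.eq_one_iff]
  have huK : π u ≠ 1 := fun e1 => by
    have := (hπ1 u).1 e1
    rw [hK, mem_charKernel, hχ.at_u h, hχ.one] at this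
    norm_num at this
  have hu2 : π u * π u = 1 := by
    rw [← map_mul, hπ1, hK, mem_charKernel, hχ.one,
      square_eq (perfect h) (irr_isCharacter χ) hχ.one, hχ.at_u h]
    simp; norm_num
  set q := QuotientGroup.mk' K
  have hq : Function.Surjective q := QuotientGroup.mk'_surjective K
  haveI : Fintype (G ⧸ K) := Fintype.ofFinite _
  haveI : Fintype (Cfsg.IrrCharacter (G ⧸ K)) := Fintype.ofFinite _
  let infl : Cfsg.IrrCharacter (G ⧸ K) ↪ Cfsg.IrrCharacter G :=
    ⟨fun φ => ⟨(φ : G ⧸ K → ℂ) ∘ q, isIrrCharacter_comp_surjective q hq φ.2⟩, fun a b hab => by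
      refine Subtype.ext (funext fun y => ?_)
      obtain ⟨x, rfl⟩ := hq y
      exact congrFun (congrArg Subtype.val hab) x⟩
  have hinfl : ∀ φ x, (infl φ : G → ℂ) x = (φ : G ⧸ K → ℂ) (q x) := fun φ x => rfl
  set I := Finset.univ.map infl
  have hin : ∀ τ : Cfsg.IrrCharacter G, (∀ g ∈ K, (τ : G → ℂ) g = (τ : G → ℂ) 1) → τ ∈ I := by
    intro τ hτ
    obtain ⟨ψ, -, h2, h3⟩ := exists_deflate_quotient K (irr_isCharacter τ) hτ
    exact Finset.mem_map.2 ⟨⟨ψ, h3 τ.2⟩, Finset.mem_univ _, Subtype.ext (funext h2)⟩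
  have hqu : q u ≠ 1 := fun e1 => huK (show e (q u) = 1 by rw [e1, map_one])
  have hsumI : ∑ τ ∈ I, (τ : G → ℂ) u * conj ((τ : G → ℂ) 1) = 0 := by
    rw [Finset.sum_map]
    simp only [hinfl, map_one]
    rw [second_orthogonality, if_neg (fun hc => hqu (isConj_one_left.1 hc))]
  have hnew : ∀ τ ∈ Iᶜ, (τ : G → ℂ) u = 0 := by
    have htriv : trivIrr G ∈ I := hin _ (by simp)
    have hne' : ∀ τ ∈ Iᶜ, τ ≠ trivIrr G := fun τ hτ e1 => Finset.mem_compl.1 hτ (e1 ▸ htriv)
    have hnn : ∀ τ ∈ Iᶜ, 0 ≤ (deg τ : ℤ) * vl u τ := fun τ hτ =>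
      term_nonneg h (hne' τ hτ) fun hT => Finset.mem_compl.1 hτ (hin τ (hker τ hT))
    have htot := second_orthogonality u (1 : G)
    rw [if_neg (fun hc => h.ne (isConj_one_left.1 hc)), ← Finset.sum_add_sum_compl I, hsumI,
      zero_add, Finset.sum_congr rfl (g := fun τ => (((deg τ : ℤ) * vl u τ : ℤ) : ℂ)) fun τ hτ => by
        rw [(vl_spec h (hne' τ hτ)).1, deg_spec, Complex.conj_natCast]
        push_cast; ring] at htot
    have hz : ∑ τ ∈ Iᶜ, (deg τ : ℤ) * vl u τ = 0 := by exact_mod_cast htot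
    intro τ hτ
    have := (Finset.sum_eq_zero_iff_of_nonneg hnn).1 hz τ hτ
    rw [(vl_spec h (hne' τ hτ)).1]
    rcases mul_eq_zero.1 this with h1 | h1
    · exact absurd h1 (by exact_mod_cast (deg_pos τ).ne')
    · simp [h1]
  have hrow : ∀ x : G, ∑ τ : Cfsg.IrrCharacter G, (τ : G → ℂ) x * conj ((τ : G → ℂ) u) =
      if IsConj (q x) (q u) then (Nat.card (Subgroup.centralizer ({q u} : Set (G ⧸ K))) : ℂ) else 0 := by
    intro x
    rw [← Finset.sum_add_sum_compl I, Finset.sum_eq_zero (s := Iᶜ) fun τ hτ => by simp [hnew τ hτ],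
      add_zero, Finset.sum_map]
    simp only [hinfl]
    rw [second_orthogonality (G := G ⧸ K) (q x) (q u)]
    congr
  have hC4 : Nat.card (Subgroup.centralizer ({q u} : Set (G ⧸ K))) = 4 := by
    rw [← alt_centralizer_card (π u) hu2 huK]
    refine Nat.card_congr (e.toEquiv.subtypeEquiv fun g => ?_)
    rw [Subgroup.mem_centralizer_singleton_iff, Subgroup.mem_centralizer_singleton_iff]
    change g * q u = q u * g ↔ e g * e (q u) = e (q u) * e g
    rw [← map_mul, ← map_mul, e.injective.eq_iff]
  refine ⟨π, e.surjective.comp hq, huK, hu2, ?_, fun x hx hx2 => ?_⟩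
  · have h1 := second_orthogonality u u
    rw [hrow, if_pos (IsConj.refl _), if_pos (IsConj.refl _), hC4] at h1
    exact_mod_cast h1.symm
  · obtain ⟨g, hg⟩ := alt_involutions_conj _ _ hx2 hx hu2 huK
    obtain ⟨g, rfl⟩ := e.surjective g
    have hconj : IsConj (q x) (q u) := isConj_iff.2 ⟨g, e.injective (by
      rw [map_mul, map_mul, map_inv]; exact hg)⟩
    by_contra hn
    have h1 := second_orthogonality x u
    rw [hrow, if_pos hconj, if_neg hn, hC4] at h1
    norm_num at h1

end Cfsg.Agent.CharTheory.DegreeThree
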