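import Mathlib
import Cfsg.Prelude.Def_CaseTheorems
import Cfsg.Agent.Lib.CharTheory.DegreeThree.Quotient
import Cfsg.Agent.InvChar.Taussky
import Cfsg.Agent.Lib.PGroups.UniqueSubgroup
import Cfsg.Agent.Lib.Perm.NearFieldTwoIndex
import Cfsg.Agent.Recognition.TriangleFive
import Cfsg.Agent.S0253

/-!
# The group theory: `A₅` on top of a kernel in which the centralizer of `u` has at most two elements
-/

set_option autoImplicit false
set_option linter.style.haveILetI false

namespace Cfsg.Agent.CharTheory.DegreeThree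

open scoped commutatorElement

variable {G : Type*} [Group G] [Finite G]

/-- The conclusion of the character part. -/
structure Above (π : G →* alternatingGroup (Fin 5)) (u : G) : Prop where
  surj : Function.Surjective π
  perfect : commutator G = ⊤
  ne : π u ≠ 1
  sq : π u * π u = 1
  centralizer : Nat.card (Subgroup.centralizer ({u} : Set G)) = 4
  conj : ∀ x : G, π x ≠ 1 → π x * π x = 1 → IsConj x u

variable {π : G →* alternatingGroup (Fin 5)} {u : G}

theorem card_ker (h : Above π u) : Nat.card G = 60 * Nat.card π.ker := by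
  rw [Subgroup.card_eq_card_quotient_mul_card_subgroup π.ker,
    Nat.card_congr (QuotientGroup.quotientKerEquivOfSurjective π h.surj).toEquiv,
    Recognition.TriangleFive.card_alt]

theorem card_centralizer (h : Above π u) {x : G} (hx : π x ≠ 1) (hx2 : π x * π x = 1) :
    Nat.card (Subgroup.centralizer ({x} : Set G)) = 4 := by
  have h1 := Characters.card_carrier_mul_card_centralizer x
  have h2 := Characters.card_carrier_mul_card_centralizer u
  rw [ConjClasses.mk_eq_mk_iff_isConj.2 (h.conj x hx hx2), ← h2] at h1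
  rw [Nat.eq_of_mul_eq_mul_left (Nat.card_pos_iff.2 ⟨⟨⟨u, ConjClasses.mem_carrier_mk⟩⟩,
    inferInstance⟩) h1, h.centralizer]

theorem orderOf_eq_of_involution (h : Above π u) {x : G} (hx : π x ≠ 1) (hx2 : π x * π x = 1) :
    orderOf x = orderOf u := by
  obtain ⟨c, hc⟩ := isConj_iff.1 (h.conj x hx hx2)
  have hinj : Function.Injective (MulAut.conj c).toMonoidHom := (MulAut.conj c).injective
  rw [← hc, ← orderOf_injective _ hinj x]
  rfl

theorem orderOf_dvd_four (h : Above π u) : orderOf u ∣ 4 := by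
  have hu : u ∈ Subgroup.centralizer ({u} : Set G) := Subgroup.mem_centralizer_singleton_iff.2 rfl
  have := orderOf_dvd_natCard (⟨u, hu⟩ : Subgroup.centralizer ({u} : Set G))
  rwa [h.centralizer, Subgroup.orderOf_mk] at this

theorem card_ker_inf_centralizer (h : Above π u) {x : G} (hx : π x ≠ 1) (hx2 : π x * π x = 1) :
    Nat.card (π.ker ⊓ Subgroup.centralizer ({x} : Set G) : Subgroup G) ≤ 2 := by
  have hd : Nat.card (π.ker ⊓ Subgroup.centralizer ({x} : Set G) : Subgroup G) ∣ 4 :=
    card_centralizer h hx hx2 ▸ Subgroup.card_dvd_of_le inf_le_right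
  have hne : Nat.card (π.ker ⊓ Subgroup.centralizer ({x} : Set G) : Subgroup G) ≠ 4 := by
    intro e
    have := Subgroup.eq_of_le_of_card_ge
      (inf_le_right : π.ker ⊓ Subgroup.centralizer ({x} : Set G) ≤ _)
      (by rw [e, card_centralizer h hx hx2])
    have hx' : x ∈ Subgroup.centralizer ({x} : Set G) := Subgroup.mem_centralizer_singleton_iff.2 rfl
    rw [← this] at hx'
    exact hx hx'.1
  have hle := Nat.le_of_dvd (by norm_num) hd
  have h3 : Nat.card (π.ker ⊓ Subgroup.centralizer ({x} : Set G) : Subgroup G) ≠ 3 := fun e => by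
    rw [e] at hd; norm_num at hd
  omega

theorem eq_of_card_le_two {H : Subgroup G} (hH : Nat.card H ≤ 2) {a b : G} (ha : a ∈ H) (hb : b ∈ H)
    (ha1 : a ≠ 1) (hb1 : b ≠ 1) : a = b := by
  by_contra hne
  have hinj : Function.Injective ![(1 : H), ⟨a, ha⟩, ⟨b, hb⟩] := by
    intro i j hij
    fin_cases i <;> fin_cases j <;> simp_all [Subtype.ext_iff]
  have := Nat.card_le_card_of_injective _ hinj
  rw [Nat.card_fin] at this
  omega

theorem ker_eq_oddCore_of_odd (h : Above π u) (hodd : Odd (Nat.card π.ker)) :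
    Cfsg.oddCore G = π.ker := by
  refine le_antisymm ?_ (le_sSup ⟨inferInstance, Nat.coprime_two_right.2 hodd⟩)
  intro g hg
  exact (oddCore_map_eq_bot h).le (Subgroup.mem_map_of_mem π hg)
where
  oddCore_map_eq_bot (h : Above π u) : (Cfsg.oddCore G).map π = ⊥ := by
    haveI := alternatingGroup.isSimpleGroup_five
    haveI : ((Cfsg.oddCore G).map π).Normal := Subgroup.Normal.map inferInstance π h.surj
    refine (IsSimpleGroup.eq_bot_or_eq_top_of_normal _ inferInstance).resolve_right fun e => ?_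
    have h1 := Subgroup.card_map_dvd (H := Cfsg.oddCore G) π
    rw [e, Subgroup.card_top, Recognition.TriangleFive.card_alt] at h1
    exact PLocal.Cores.not_dvd_card_pPrimeCore (G := G) (p := 2) (by norm_num)
      ((by norm_num : 2 ∣ 60).trans h1)

theorem odd_case (h : Above π u) (hodd : Odd (Nat.card π.ker)) :
    IsMulCommutative ↥(Cfsg.oddCore G) ∧
      Nonempty (G ⧸ Cfsg.oddCore G ≃* Matrix.ProjectiveSpecialLinearGroup (Fin 2) (ZMod 5)) ∧
      orderOf u = 2 := by
  haveI : Fact (Nat.Prime 2) := ⟨Nat.prime_two⟩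
  haveI : Fact (Nat.Prime 5) := ⟨by norm_num⟩
  have hu4 : (u * u) ^ 2 = 1 := by
    rw [← pow_two, ← pow_mul]
    exact orderOf_dvd_iff_pow_eq_one.1 (orderOf_dvd_four h)
  have huK : u * u ∈ π.ker := by rw [MonoidHom.mem_ker, map_mul, h.sq]
  have hu2 : u * u = 1 := by
    have h1 : orderOf (u * u) ∣ Nat.card π.ker := by
      rw [← Subgroup.orderOf_mk _ huK]; exact orderOf_dvd_natCard _
    exact orderOf_eq_one_iff.1 (Nat.eq_one_of_dvd_coprimes (Nat.coprime_two_left.2 hodd)
      (orderOf_dvd_of_pow_eq_one hu4) h1)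
  have hou : orderOf u = 2 :=
    orderOf_eq_prime (by rw [pow_two, hu2]) fun e => h.ne (by rw [e, map_one])
  have hinv : ∀ k ∈ π.ker, u * k * u⁻¹ = k⁻¹ := by
    intro k hk
    have hk' : π (u * k) = π u := by rw [map_mul, MonoidHom.mem_ker.1 hk, mul_one]
    have h1 : (u * k) ^ 2 = 1 := by
      rw [← hou, ← orderOf_eq_of_involution h (x := u * k) (by rw [hk']; exact h.ne)
        (by rw [hk']; exact h.sq)]
      exact pow_orderOf_eq_one _
    rw [inv_eq_of_mul_eq_one_right hu2]
    exact eq_inv_of_mul_eq_one_left (by rw [← h1, pow_two]; group)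
  have hcomm : IsMulCommutative ↥π.ker := ⟨⟨fun a b => Subtype.ext (by
    have h3 : (u * (a : G) * u⁻¹) * (u * (b : G) * u⁻¹) = u * ((a : G) * b) * u⁻¹ := by group
    rw [hinv _ a.2, hinv _ b.2, hinv _ (mul_mem a.2 b.2), ← mul_inv_rev] at h3
    exact (inv_injective h3).symm)⟩⟩
  have hK := ker_eq_oddCore_of_odd h hodd
  refine ⟨hK ▸ hcomm, ?_, hou⟩
  obtain ⟨e⟩ := S0253.result (F := ZMod 5) (ZMod.card 5)
  exact ⟨((QuotientGroup.quotientMulEquivOfEq hK).trans
    (QuotientGroup.quotientKerEquivOfSurjective π h.surj)).trans e.symm⟩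

theorem sylow_facts (h : Above π u) (P : Sylow 2 G) (huP : u ∈ (P : Subgroup G)) :
    Nat.card (P : Subgroup G) = 4 * Nat.card ((P : Subgroup G) ⊓ π.ker : Subgroup G) ∧
      15 * Nat.card π.ker =
        Nat.card ((P : Subgroup G) ⊓ π.ker : Subgroup G) * (P : Subgroup G).index ∧
      ∀ s ∈ (P : Subgroup G), π s * π s = 1 ∧ Commute (π s) (π u) := by
  haveI : Fact (Nat.Prime 2) := ⟨Nat.prime_two⟩
  set R := P.mapSurjective h.surj
  have hR : (R : Subgroup (alternatingGroup (Fin 5))) = (P : Subgroup G).map π :=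
    Sylow.coe_mapSurjective h.surj P
  have hR4 : Nat.card (R : Subgroup (alternatingGroup (Fin 5))) = 2 ^ 2 := by
    rw [R.card_eq_multiplicity, Recognition.TriangleFive.card_alt,
      show (60 : ℕ) = 2 ^ 2 * 15 by norm_num, Nat.factorization_mul (by norm_num) (by norm_num),
      Nat.factorization_pow, Finsupp.add_apply, Finsupp.smul_apply, Nat.Prime.factorization_self
      Nat.prime_two, Nat.factorization_eq_zero_of_not_dvd (by norm_num : ¬ 2 ∣ 15)]
    norm_num
  have hcomm := IsPGroup.commutative_of_card_eq_prime_sq hR4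
  have hmem : ∀ s ∈ (P : Subgroup G), π s ∈ (R : Subgroup (alternatingGroup (Fin 5))) :=
    fun s hs => hR ▸ Subgroup.mem_map_of_mem π hs
  have hcard : Nat.card (P : Subgroup G) =
      4 * Nat.card ((P : Subgroup G) ⊓ π.ker : Subgroup G) := by
    let f : (P : Subgroup G) →* alternatingGroup (Fin 5) := π.comp (P : Subgroup G).subtype
    have e1 : Nat.card f.range = 4 := by
      rw [show f.range = (R : Subgroup (alternatingGroup (Fin 5))) by
        rw [hR, MonoidHom.range_comp, Subgroup.range_subtype], hR4]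
      norm_num
    have e2 : Nat.card f.ker = Nat.card ((P : Subgroup G) ⊓ π.ker : Subgroup G) :=
      Nat.card_congr
        { toFun := fun x => ⟨x.1.1, x.1.2, x.2⟩
          invFun := fun x => ⟨⟨x.1, x.2.1⟩, x.2.2⟩
          left_inv := fun x => rfl
          right_inv := fun x => rfl }
    rw [Subgroup.card_eq_card_quotient_mul_card_subgroup f.ker,
      Nat.card_congr (QuotientGroup.quotientKerEquivRange f).toEquiv, e1, e2]
  refine ⟨hcard, ?_, fun s hs => ?_⟩
  · have h1 := (P : Subgroup G).card_mul_index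
    rw [hcard, card_ker h] at h1
    linarith
  · have hc : Commute (π s) (π u) :=
      congrArg Subtype.val (hcomm ⟨π s, hmem s hs⟩ ⟨π u, hmem u huP⟩)
    exact ⟨alt_centralizer_exp (π u) h.sq h.ne (π s) hc, hc⟩

/-- In the even case a Sylow `2`-subgroup has cyclic intersection with the kernel, equal to its
commutator subgroup. -/
theorem commutator_sylow (h : Above π u) (P : Sylow 2 G) (huP : u ∈ (P : Subgroup G))
    (heven : Even (Nat.card π.ker)) :
    commutator (P : Subgroup G) = (π.comp (P : Subgroup G).subtype).ker ∧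
      2 ∣ Nat.card ((P : Subgroup G) ⊓ π.ker : Subgroup G) ∧
      IsCyclic ((P : Subgroup G) ⊓ π.ker : Subgroup G) := by
  classical
  haveI : Fact (Nat.Prime 2) := ⟨Nat.prime_two⟩
  obtain ⟨hcard, hidx, hP⟩ := sylow_facts h P huP
  set Q := (π.comp (P : Subgroup G).subtype).ker with hQdef
  let eQ : Q ≃* ((P : Subgroup G) ⊓ π.ker : Subgroup G) :=
    { toFun := fun x => ⟨x.1.1, x.1.2, x.2⟩
      invFun := fun x => ⟨⟨x.1, x.2.1⟩, x.2.2⟩
      left_inv := fun x => rfl
      right_inv := fun x => rfl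
      map_mul' := fun x y => rfl }
  have hQcard : Nat.card Q = Nat.card ((P : Subgroup G) ⊓ π.ker : Subgroup G) :=
    Nat.card_congr eQ.toEquiv
  have hQ2 : 2 ∣ Nat.card ((P : Subgroup G) ⊓ π.ker : Subgroup G) := by
    have h2 : 2 ∣ Nat.card ((P : Subgroup G) ⊓ π.ker : Subgroup G) * (P : Subgroup G).index :=
      hidx ▸ (heven.two_dvd.mul_left 15)
    exact ((Nat.Prime.dvd_mul Nat.prime_two).1 h2).resolve_right P.not_dvd_index
  have hQidx : Q.index = 4 := by
    have := Q.index_mul_card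
    rw [hcard, hQcard] at this
    exact Nat.eq_of_mul_eq_mul_right (Nat.card_pos) this
  have hle : commutator (P : Subgroup G) ≤ Q := by
    rw [commutator_def, Subgroup.commutator_le]
    intro a _ b _
    rw [hQdef, MonoidHom.mem_ker, map_commutatorElement, commutatorElement_eq_one_iff_mul_comm]
    have hR := fun s hs => (hP s hs).1
    have e1 := hR a a.2
    have e2 := hR b b.2
    have e3 := hR ((a : G) * b) (mul_mem a.2 b.2)
    rw [map_mul] at e3
    change π (a : G) * π (b : G) = π (b : G) * π (a : G)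
    calc π (a : G) * π (b : G)
        = π (a : G) * (π (a : G) * π (b : G) * (π (a : G) * π (b : G))) * π (b : G) := by
          rw [e3, mul_one]
      _ = (π (a : G) * π (a : G)) * (π (b : G) * π (a : G)) * (π (b : G) * π (b : G)) := by group
      _ = π (b : G) * π (a : G) := by rw [e1, e2, one_mul, mul_one]
  -- the class of `u` in `P` lies in a coset of the commutator subgroup
  set uS : (P : Subgroup G) := ⟨u, huP⟩
  have hcls : Nat.card (ConjClasses.mk uS).carrier ≤ Nat.card (commutator (P : Subgroup G)) := by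
    refine Nat.card_le_card_of_injective (fun x => ⟨uS⁻¹ * x.1, ?_⟩) fun x y hxy => ?_
    · obtain ⟨s, hs⟩ := isConj_iff.1
        (ConjClasses.mk_eq_mk_iff_isConj.1 (ConjClasses.mem_carrier_iff_mk_eq.1 x.2).symm)
      rw [← hs, show uS⁻¹ * (s * uS * s⁻¹) = ⁅uS⁻¹, s⁆ by simp [commutatorElement_def, mul_assoc],
        commutator_def]
      exact Subgroup.commutator_mem_commutator (Subgroup.mem_top _) (Subgroup.mem_top _)
    · exact Subtype.ext (mul_left_cancel (congrArg Subtype.val hxy))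
  have hcC : Nat.card (Subgroup.centralizer ({uS} : Set (P : Subgroup G))) ≤ 4 := by
    rw [← h.centralizer]
    refine Nat.card_le_card_of_injective (fun x => ⟨x.1.1, ?_⟩) fun x y hxy => ?_
    · rw [Subgroup.mem_centralizer_singleton_iff]
      exact congrArg Subtype.val (Subgroup.mem_centralizer_singleton_iff.1 x.2)
    · exact Subtype.ext (Subtype.ext (congrArg Subtype.val hxy :))
  have hS := Characters.card_carrier_mul_card_centralizer uS
  have heq : commutator (P : Subgroup G) = Q := Subgroup.eq_of_le_of_card_ge hle (by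
    have h1 := Nat.mul_le_mul hcls hcC
    rw [hS, hcard, ← hQcard] at h1
    omega)
  obtain ⟨a, ha⟩ := InvChar.Taussky.exists_cyclic _ rfl P.isPGroup' (heq ▸ hQidx) fun x => by
    rw [heq, hQdef, MonoidHom.mem_ker, map_pow, pow_two]
    exact (hP x x.2).1
  have hA : (Subgroup.zpowers a).index = 2 := by
    have := (Subgroup.zpowers a).index_mul_card
    rw [Nat.card_zpowers, ← ha, mul_comm (orderOf a) 2] at this
    exact Nat.eq_of_mul_eq_mul_right (orderOf_pos a) this
  have hQA : Q ≤ Subgroup.zpowers a := by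
    rw [← heq, commutator_def, Subgroup.commutator_le]
    intro x _ y _
    rw [show ⁅x, y⁆ = x * x * ((x⁻¹ * y) * (x⁻¹ * y)) * (y⁻¹ * y⁻¹) by
      rw [commutatorElement_def]; group]
    exact mul_mem (mul_mem (Subgroup.mul_self_mem_of_index_two hA _)
      (Subgroup.mul_self_mem_of_index_two hA _)) (Subgroup.mul_self_mem_of_index_two hA _)
  haveI : IsCyclic Q :=
    isCyclic_of_injective (Subgroup.inclusion hQA) (Subgroup.inclusion_injective hQA)
  exact ⟨heq, hQ2, isCyclic_of_surjective eQ.toMonoidHom eQ.surjective⟩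

/-- A normal subgroup fused trivially: commutators of the normalizer of a cyclic group centralize it. -/
theorem commutator_mem_centralizer {A : Subgroup G} [IsCyclic A] {a b : G}
    (ha : a ∈ Subgroup.normalizer (A : Set G)) (hb : b ∈ Subgroup.normalizer (A : Set G)) :
    ⁅a, b⁆ ∈ Subgroup.centralizer (A : Set G) := by
  obtain ⟨q, hq⟩ := IsCyclic.exists_generator (α := A)
  have hpow : ∀ x ∈ A, ∃ i : ℤ, (q : G) ^ i = x := fun x hx => by
    obtain ⟨i, hi⟩ := hq ⟨x, hx⟩
    exact ⟨i, by simpa using congrArg Subtype.val hi⟩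
  obtain ⟨i, hi⟩ := hpow _ ((Subgroup.mem_normalizer_iff.1 ha (q : G)).1 q.2)
  obtain ⟨j, hj⟩ := hpow _ ((Subgroup.mem_normalizer_iff.1 hb (q : G)).1 q.2)
  have h1 : ∀ c n : G, ∀ k : ℤ, c * n ^ k * c⁻¹ = (c * n * c⁻¹) ^ k := fun c n k => by
    rw [← MulAut.conj_apply, map_zpow, MulAut.conj_apply]
  have hab : a * b * (q : G) * (a * b)⁻¹ = b * a * (q : G) * (b * a)⁻¹ := by
    calc a * b * (q : G) * (a * b)⁻¹ = a * (b * (q : G) * b⁻¹) * a⁻¹ := by group
      _ = (q : G) ^ (i * j) := by rw [← hj, h1, ← hi, ← zpow_mul]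
      _ = b * (a * (q : G) * a⁻¹) * b⁻¹ := by rw [← hi, h1, ← hj, ← zpow_mul, mul_comm j i]
      _ = b * a * (q : G) * (b * a)⁻¹ := by group
  have hc : (q : G) * ((b * a)⁻¹ * (a * b)) = ((b * a)⁻¹ * (a * b)) * (q : G) := by
    calc (q : G) * ((b * a)⁻¹ * (a * b))
        = (b * a)⁻¹ * (b * a * (q : G) * (b * a)⁻¹) * (a * b) := by group
      _ = ((b * a)⁻¹ * (a * b)) * (q : G) := by rw [← hab]; group
  have hn : b * a ∈ Subgroup.normalizer (A : Set G) := mul_mem hb ha
  rw [Subgroup.mem_centralizer_iff]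
  intro x hx
  -- conjugate the relation by `b * a`
  obtain ⟨k, hk⟩ := hpow _ ((Subgroup.mem_normalizer_iff''.1 hn x).1 hx)
  have hck : Commute ((q : G) ^ k) ((b * a)⁻¹ * (a * b)) := Commute.zpow_left hc k
  rw [show ⁅a, b⁆ = (b * a) * ((b * a)⁻¹ * (a * b)) * (b * a)⁻¹ by
    rw [commutatorElement_def]; group]
  calc x * ((b * a) * ((b * a)⁻¹ * (a * b)) * (b * a)⁻¹)
      = (b * a) * (((b * a)⁻¹ * x * (b * a)) * ((b * a)⁻¹ * (a * b))) * (b * a)⁻¹ := by group
    _ = (b * a) * (((b * a)⁻¹ * (a * b)) * ((b * a)⁻¹ * x * (b * a))) * (b * a)⁻¹ := by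
        rw [← hk, hck.eq]
    _ = _ := by group

theorem even_facts (h : Above π u) (P : Sylow 2 G) (huP : u ∈ (P : Subgroup G))
    (heven : Even (Nat.card π.ker)) :
    Nat.card ((P : Subgroup G) ⊓ π.ker : Subgroup G) = 2 ∧
      (Subgroup.centralizer (((P : Subgroup G) ⊓ π.ker : Subgroup G) : Set G)).map π = ⊤ ∧
      (∃ m, Odd m ∧ Nat.card π.ker = 2 * m) := by
  haveI : Fact (Nat.Prime 2) := ⟨Nat.prime_two⟩
  obtain ⟨hcard, hidx, hP⟩ := sylow_facts h P huP
  obtain ⟨-, hQ2, hcyc⟩ := commutator_sylow h P huP heven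
  set A := (P : Subgroup G) ⊓ π.ker
  have hnd : ¬ 2 ∣ (A.subgroupOf π.ker).index := fun hd => by
    have h1 := (A.subgroupOf π.ker).index_mul_card
    rw [Nat.card_congr (Subgroup.subgroupOfEquivOfLe (inf_le_right : A ≤ π.ker)).toEquiv] at h1
    have h2 : 15 * (A.subgroupOf π.ker).index = (P : Subgroup G).index := by
      refine Nat.eq_of_mul_eq_mul_left (Nat.card_pos (α := A)) ?_
      rw [← hidx, ← h1]; ring
    exact P.not_dvd_index (h2 ▸ hd.mul_left 15)
  have hAp : IsPGroup 2 A := P.isPGroup'.to_le inf_le_left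
  let Qk : Sylow 2 π.ker := IsPGroup.toSylow
    (hAp.of_injective (Subgroup.subgroupOfEquivOfLe (inf_le_right : A ≤ π.ker)).toMonoidHom
      (Subgroup.subgroupOfEquivOfLe (inf_le_right : A ≤ π.ker)).injective) hnd
  have hsup := Sylow.normalizer_sup_eq_top Qk
  rw [show ((Qk : Subgroup π.ker).map π.ker.subtype) = A from
    Subgroup.map_subgroupOf_eq_of_le inf_le_right] at hsup
  have hN : (Subgroup.normalizer (A : Set G)).map π = ⊤ := by
    have := congrArg (Subgroup.map π) hsup
    rwa [Subgroup.map_sup, (Subgroup.map_eq_bot_iff (f := π) π.ker).2 le_rfl, sup_bot_eq,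
      Subgroup.map_top_of_surjective π h.surj] at this
  have hC : (Subgroup.centralizer (A : Set G)).map π = ⊤ := by
    rw [eq_top_iff, ← perfect_alt, commutator_def, Subgroup.commutator_le]
    intro x _ y _
    obtain ⟨a, ha, rfl⟩ := hN.ge (Subgroup.mem_top x)
    obtain ⟨b, hb, rfl⟩ := hN.ge (Subgroup.mem_top y)
    exact ⟨⁅a, b⁆, commutator_mem_centralizer ha hb, map_commutatorElement π a b⟩
  obtain ⟨c, hc, hcu⟩ := hC.ge (Subgroup.mem_top (π u))
  have hle : A ≤ π.ker ⊓ Subgroup.centralizer ({c} : Set G) := le_inf inf_le_right fun x hx =>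
    Subgroup.mem_centralizer_singleton_iff.2 (Subgroup.mem_centralizer_iff.1 hc x hx)
  have hA2 : Nat.card A = 2 := le_antisymm
    ((Subgroup.card_le_of_le hle).trans
      (card_ker_inf_centralizer h (by rw [hcu]; exact h.ne) (by rw [hcu]; exact h.sq)))
    (Nat.le_of_dvd Nat.card_pos hQ2)
  refine ⟨hA2, hC, (A.subgroupOf π.ker).index,
    Nat.not_even_iff_odd.1 fun e => hnd e.two_dvd, ?_⟩
  have h1 := (A.subgroupOf π.ker).index_mul_card
  rw [Nat.card_congr (Subgroup.subgroupOfEquivOfLe (inf_le_right : A ≤ π.ker)).toEquiv, hA2] at h1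
  omega
where
  perfect_alt : commutator (alternatingGroup (Fin 5)) = ⊤ := by
    have := congrArg (Subgroup.map π) h.perfect
    rwa [commutator_def, Subgroup.map_commutator, Subgroup.map_top_of_surjective π h.surj,
      ← commutator_def] at this

theorem exists_oddPart (h : Above π u) {m : ℕ} (hm : Odd m) (hK : Nat.card π.ker = 2 * m)
    (A : Subgroup G) (hA : A ≤ π.ker) (hA2 : Nat.card A = 2) :
    Cfsg.oddCore G ≤ π.ker ∧ Nat.card (Cfsg.oddCore G) = m ∧ A ⊓ Cfsg.oddCore G = ⊥ := by
  classical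
  haveI : Fact (Nat.Prime 2) := ⟨Nat.prime_two⟩
  set K := π.ker with hKdef
  have hcop : ¬ 2 ∣ m := hm.not_two_dvd_nat
  obtain ⟨R⟩ : Nonempty (Sylow 2 K) := inferInstance
  have hR : Nat.card (R : Subgroup K) = 2 ^ 1 := by
    rw [R.card_eq_multiplicity, hK, Nat.factorization_mul (by norm_num) (fun e => by
      rw [e] at hcop; exact hcop (dvd_zero 2)), Finsupp.add_apply, Nat.Prime.factorization_self
      Nat.prime_two, Nat.factorization_eq_zero_of_not_dvd hcop]
  obtain ⟨N, hN⟩ := Perm.NearField.index_two_of_cyclic (hK ▸ dvd_mul_right 2 m) R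
    (isCyclic_of_prime_card (p := 2) (by rw [hR]; norm_num))
  have hNc : Nat.card N = m := by
    have := N.index_mul_card
    rw [hN, hK] at this
    omega
  set O := N.map K.subtype
  have hOc : Nat.card O = m := by
    rw [Subgroup.card_map_of_injective K.subtype_injective, hNc]
  have hiff : ∀ g, g ∈ O ↔ g ∈ K ∧ Odd (orderOf g) := by
    intro g
    constructor
    · rintro ⟨x, hx, rfl⟩
      refine ⟨x.2, Odd.of_dvd_nat hm ?_⟩
      rw [← hOc, ← Subgroup.orderOf_mk _ (Subgroup.mem_map_of_mem K.subtype hx)]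
      exact orderOf_dvd_natCard _
    · rintro ⟨hg, k, hk⟩
      refine ⟨⟨g, hg⟩, ?_, rfl⟩
      have h1 : (⟨g, hg⟩ : K) = ((⟨g, hg⟩ : K) ^ (k + 1)) ^ 2 := Subtype.ext (by
        push_cast
        rw [← pow_mul, show (k + 1) * 2 = orderOf g + 1 by omega, pow_succ, pow_orderOf_eq_one,
          one_mul])
      rw [h1]
      exact Subgroup.sq_mem_of_index_two hN _
  haveI : O.Normal := ⟨fun g hg x => by
    rw [hiff] at hg ⊢
    refine ⟨(inferInstance : π.ker.Normal).conj_mem g hg.1 x, ?_⟩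
    rw [← MulAut.conj_apply, MulEquiv.orderOf_eq]
    exact hg.2⟩
  have hO : O ≤ Cfsg.oddCore G :=
    le_sSup ⟨inferInstance, by rw [hOc]; exact Nat.coprime_two_right.2 hm⟩
  have hle : Cfsg.oddCore G ≤ π.ker := fun g hg =>
    (ker_eq_oddCore_of_odd.oddCore_map_eq_bot h).le (Subgroup.mem_map_of_mem π hg)
  have hodd : ¬ 2 ∣ Nat.card (Cfsg.oddCore G) := PLocal.Cores.not_dvd_card_pPrimeCore (by norm_num)
  have heq : O = Cfsg.oddCore G := le_antisymm hO fun g hg => (hiff g).2 ⟨hle hg, by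
    refine Odd.of_dvd_nat (Nat.not_even_iff_odd.1 fun e => hodd e.two_dvd) ?_
    rw [← Subgroup.orderOf_mk g hg]
    exact orderOf_dvd_natCard _⟩
  refine ⟨hle, heq ▸ hOc, ?_⟩
  refine Subgroup.inf_eq_bot_of_coprime ?_
  rw [hA2, ← heq, hOc]
  exact Nat.coprime_two_left.2 hm

theorem even_case (h : Above π u) (heven : Even (Nat.card π.ker)) :
    IsMulCommutative ↥(Cfsg.oddCore G) ∧
      Nonempty (G ⧸ Cfsg.oddCore G ≃* Matrix.SpecialLinearGroup (Fin 2) (ZMod 5)) ∧
      orderOf u = 4 := by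
  classical
  haveI : Fact (Nat.Prime 2) := ⟨Nat.prime_two⟩
  have hu4 := orderOf_dvd_four h
  obtain ⟨P, huP⟩ : ∃ P : Sylow 2 G, u ∈ (P : Subgroup G) := by
    obtain ⟨j, -, hj⟩ := (Nat.dvd_prime_pow Nat.prime_two).1 (show orderOf u ∣ 2 ^ 2 from hu4)
    obtain ⟨P, hP⟩ := (IsPGroup.of_card (n := j) (by rw [Nat.card_zpowers, hj]) :
      IsPGroup 2 (Subgroup.zpowers u)).exists_le_sylow
    exact ⟨P, hP (Subgroup.mem_zpowers u)⟩
  obtain ⟨hcard, -, hP⟩ := sylow_facts h P huP
  obtain ⟨hcomm, -, -⟩ := commutator_sylow h P huP heven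
  obtain ⟨hA2, hC, m, hm, hK⟩ := even_facts h P huP heven
  set A := (P : Subgroup G) ⊓ π.ker
  obtain ⟨hOK, hOc, hAO⟩ := exists_oddPart h hm hK A inf_le_right hA2
  have hP8 : Nat.card (P : Subgroup G) = 8 := by rw [hcard, hA2]
  obtain ⟨z, hzA, hz1⟩ : ∃ z ∈ A, z ≠ 1 := by
    obtain ⟨⟨z, hz⟩, hz'⟩ := Subgroup.ne_bot_iff_exists_ne_one.1
      ((Subgroup.one_lt_card_iff_ne_bot A).1 (by rw [hA2]; norm_num))
    exact ⟨z, hz, fun e => hz' (Subtype.ext e)⟩
  have hAmem : ∀ x ∈ A, x ≠ 1 → x = z := fun x hx hx1 =>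
    eq_of_card_le_two hA2.le hx hzA hx1 hz1
  have hz2 : z * z = 1 := by
    by_contra hne
    have := hAmem (z * z) (mul_mem hzA hzA) hne
    exact hz1 (mul_left_cancel (this.trans (mul_one z).symm))
  -- elements of `P` outside the kernel
  have hout : ∀ s ∈ (P : Subgroup G), π s ≠ 1 → orderOf s = orderOf u := fun s hs hs1 =>
    orderOf_eq_of_involution h hs1 (hP s hs).1
  have huA : u * u ∈ A := ⟨mul_mem huP huP, by
    change π (u * u) = 1; rw [map_mul, h.sq]⟩
  have hnc : ¬ ∀ a b : (P : Subgroup G), a * b = b * a := by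
    intro hc
    have hbot : commutator (P : Subgroup G) = ⊥ := by
      rw [commutator_def, Subgroup.commutator_eq_bot_iff_le_centralizer]
      intro a _
      rw [Subgroup.mem_centralizer_iff]
      exact fun b _ => hc b a
    rw [hbot] at hcomm
    have : (⟨z, hzA.1⟩ : (P : Subgroup G)) ∈ (π.comp (P : Subgroup G).subtype).ker := hzA.2
    rw [← hcomm, Subgroup.mem_bot] at this
    exact hz1 (congrArg Subtype.val this)
  have hu2 : u * u = z := by
    refine hAmem _ huA fun e => hnc fun a b => ?_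
    have hsq : ∀ s : (P : Subgroup G), s * s = 1 := fun s => Subtype.ext (by
      show (s : G) * s = 1
      by_cases hs : π (s : G) = 1
      · by_cases hs1 : (s : G) = 1
        · rw [hs1, one_mul]
        · rw [hAmem _ ⟨s.2, hs⟩ hs1, hz2]
      · have := pow_orderOf_eq_one (s : G)
        rw [hout _ s.2 hs, orderOf_eq_prime (by rw [pow_two, e]) (fun e' => h.ne (by rw [e', map_one])),
          pow_two] at this
        exact this)
    calc a * b = (a * b)⁻¹ := eq_inv_of_mul_eq_one_left (hsq _)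
      _ = b⁻¹ * a⁻¹ := mul_inv_rev a b
      _ = b * a := by rw [inv_eq_of_mul_eq_one_right (hsq a), inv_eq_of_mul_eq_one_right (hsq b)]
  have hu : orderOf u = 4 := by
    rw [show (4 : ℕ) = 2 ^ (1 + 1) by norm_num]
    refine orderOf_eq_prime_pow ?_ ?_
    · rw [pow_one, pow_two, hu2]; exact hz1
    · rw [show (2 : ℕ) ^ (1 + 1) = 2 * 2 by norm_num, pow_mul, pow_two u, hu2, pow_two, hz2]
  have hquat : Nonempty ((P : Subgroup G) ≃* QuaternionGroup 2) := by
    have hinv : ∀ s : (P : Subgroup G), s ≠ 1 → s * s = 1 → (s : G) = z := fun s hs1 hs2 => by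
      by_cases hs : π (s : G) = 1
      · exact hAmem _ ⟨s.2, hs⟩ fun e => hs1 (Subtype.ext e)
      · exfalso
        have h4 := hout _ s.2 hs
        rw [hu] at h4
        have := orderOf_dvd_of_pow_eq_one (show (s : G) ^ 2 = 1 by
          rw [pow_two]; exact congrArg Subtype.val hs2)
        rw [h4] at this
        norm_num at this
    have huniq : ∀ H H' : Subgroup (P : Subgroup G), Nat.card H = 2 → Nat.card H' = 2 → H = H' := by
      have key : ∀ H : Subgroup (P : Subgroup G), Nat.card H = 2 →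
          H = Subgroup.zpowers (⟨z, hzA.1⟩ : (P : Subgroup G)) := by
        intro H hH
        obtain ⟨⟨s, hs⟩, hs1⟩ := Subgroup.ne_bot_iff_exists_ne_one.1
          ((Subgroup.one_lt_card_iff_ne_bot H).1 (by rw [hH]; norm_num))
        have h2 : s * s = 1 := by
          have := pow_card_eq_one' (x := (⟨s, hs⟩ : H))
          rw [hH, pow_two] at this
          exact congrArg Subtype.val this
        have hsz : (s : (P : Subgroup G)) = ⟨z, hzA.1⟩ :=
          Subtype.ext (hinv s (fun e => hs1 (Subtype.ext e)) h2)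
        refine (Subgroup.eq_of_le_of_card_ge (Subgroup.zpowers_le.2 (hsz ▸ hs)) ?_).symm
        rw [hH, Nat.card_zpowers, ← hsz]
        rw [orderOf_eq_prime (by rw [pow_two, h2]) (fun e => hs1 (Subtype.ext e))]
      exact fun H H' hH hH' => (key H hH).trans (key H' hH').symm
    rcases PGroups.UniqueSubgroup.isCyclic_or_quaternion P.isPGroup' huniq with hc | ⟨-, n, ⟨e⟩⟩
    · exact absurd (fun a b => by
        letI := IsCyclic.commGroup (α := (P : Subgroup G))
        exact mul_comm a b) hnc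
    · have h4 := Nat.card_congr e.toEquiv
      rw [hP8, Nat.card_eq_fintype_card, QuaternionGroup.card] at h4
      have : (2 : ℕ) ^ n = 2 := by omega
      rw [this] at e
      exact ⟨e⟩
  -- the quotient by the odd core
  set O := Cfsg.oddCore G
  have hGO : Nat.card (G ⧸ O) = 120 := by
    have h1 := Subgroup.card_eq_card_quotient_mul_card_subgroup O
    rw [hOc, card_ker h, hK] at h1
    have hm0 : 0 < m := hm.pos
    nlinarith
  haveI : Nontrivial (G ⧸ O) := Finite.one_lt_card_iff_nontrivial.1 (by omega)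
  have hns := not_solvable_of_perfect (perfect_quotient h.perfect O)
  have hSyl : ∀ T : Sylow 2 (G ⧸ O), Nonempty ((T : Subgroup (G ⧸ O)) ≃* QuaternionGroup 2) := by
    intro T
    obtain ⟨e⟩ := hquat
    let f : (P : Subgroup G) →* G ⧸ O := (QuotientGroup.mk' O).comp (P : Subgroup G).subtype
    have hf : Function.Injective f := by
      rw [injective_iff_map_eq_one]
      intro s hs
      have hsO : (s : G) ∈ O := (QuotientGroup.eq_one_iff _).1 hs
      have : (s : G) ∈ A ⊓ O := ⟨⟨s.2, hOK hsO⟩, hsO⟩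
      rw [hAO, Subgroup.mem_bot] at this
      exact Subtype.ext this
    have hr : f.range =
        (P.mapSurjective (QuotientGroup.mk'_surjective O) : Subgroup (G ⧸ O)) := by
      rw [Sylow.coe_mapSurjective, MonoidHom.range_comp, Subgroup.range_subtype]
    exact ⟨((T.equiv (P.mapSurjective (QuotientGroup.mk'_surjective O))).trans
      (MulEquiv.subgroupCongr hr.symm)).trans ((MonoidHom.ofInjective hf).symm.trans e)⟩
  refine ⟨?_, Recognition.TriangleFive.recognise hGO hns hSyl, hu⟩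
  -- commutativity of the odd core
  set C := Subgroup.centralizer (A : Set G)
  have hzC : ∀ c ∈ C, z * c = c * z := fun c hc => Subgroup.mem_centralizer_iff.1 hc z hzA
  have hlift : ∀ c ∈ C, π c ≠ 1 → π c * π c = 1 → c * c = z := by
    intro c hc h1 h2
    refine eq_of_card_le_two (card_ker_inf_centralizer h h1 h2) ⟨?_, ?_⟩ ⟨hzA.2, ?_⟩ ?_ hz1
    · change π (c * c) = 1; rw [map_mul, h2]
    · refine Subgroup.mem_centralizer_singleton_iff.2 ?_; group
    · exact Subgroup.mem_centralizer_singleton_iff.2 (hzC c hc)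
    · intro e
      have h4 := orderOf_eq_of_involution h h1 h2
      rw [hu] at h4
      have := orderOf_dvd_of_pow_eq_one (show c ^ 2 = 1 by rw [pow_two, e])
      rw [h4] at this
      norm_num at this
  have hinv : ∀ c ∈ C, π c ≠ 1 → π c * π c = 1 → ∀ x ∈ O, x ∈ C → c * x * c⁻¹ = x⁻¹ := by
    intro c hc h1 h2 x hxO hxC
    have hx : π (c * x) = π c := by rw [map_mul, MonoidHom.mem_ker.1 (hOK hxO), mul_one]
    have e1 := hlift (c * x) (mul_mem hc hxC) (by rw [hx]; exact h1) (by rw [hx]; exact h2)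
    rw [← hlift c hc h1 h2] at e1
    have e2 : x * c * x = c := by
      refine mul_left_cancel (a := c) ?_
      rw [← e1]; group
    calc c * x * c⁻¹ = x⁻¹ * (x * c * x) * c⁻¹ := by group
      _ = x⁻¹ := by rw [e2, mul_inv_cancel_right]
  obtain ⟨j, hj1, hj2, hj3, hj4⟩ : ∃ j : alternatingGroup (Fin 5),
      j ≠ 1 ∧ j * j = 1 ∧ π u * j ≠ 1 ∧ (π u * j) * (π u * j) = 1 := by
    have key : ∀ i : alternatingGroup (Fin 5), i * i = 1 → i ≠ 1 →
        ∃ j : alternatingGroup (Fin 5), j ≠ 1 ∧ j * j = 1 ∧ i * j ≠ 1 ∧ (i * j) * (i * j) = 1 := by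
      decide +kernel
    exact key (π u) h.sq h.ne
  obtain ⟨c₁, hc₁, hcu⟩ := hC.ge (Subgroup.mem_top (π u))
  obtain ⟨c₂, hc₂, hcj⟩ := hC.ge (Subgroup.mem_top j)
  have hX : ∀ x ∈ O, x ∈ C → x = 1 := by
    intro x hxO hxC
    have e1 := hinv c₁ hc₁ (by rw [hcu]; exact h.ne) (by rw [hcu]; exact h.sq)
    have e2 := hinv c₂ hc₂ (by rw [hcj]; exact hj1) (by rw [hcj]; exact hj2)
    have e3 := hinv (c₁ * c₂) (mul_mem hc₁ hc₂) (by rw [map_mul, hcu, hcj]; exact hj3)
      (by rw [map_mul, hcu, hcj]; exact hj4) x hxO hxC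
    have e4 : c₁ * c₂ * x * (c₁ * c₂)⁻¹ = x := by
      calc c₁ * c₂ * x * (c₁ * c₂)⁻¹ = c₁ * (c₂ * x * c₂⁻¹) * c₁⁻¹ := by group
        _ = c₁ * x⁻¹ * c₁⁻¹ := by rw [e2 x hxO hxC]
        _ = x := by rw [e1 x⁻¹ (inv_mem hxO) (inv_mem hxC), inv_inv]
    rw [e4] at e3
    have h2 : x ^ 2 = 1 := by
      rw [pow_two]; exact mul_eq_one_iff_eq_inv.2 e3
    refine orderOf_eq_one_iff.1 (Nat.eq_one_of_dvd_coprimes (Nat.coprime_two_left.2 hm)
      (orderOf_dvd_of_pow_eq_one h2) ?_)
    rw [← hOc, ← Subgroup.orderOf_mk x hxO]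
    exact orderOf_dvd_natCard _
  let φ : MulAut ↥O := MulAut.conjNormal (H := O) z
  have hfpf : MonoidHom.FixedPointFree (φ.toMonoidHom) := fun x hx => Subtype.ext (hX x x.2 (by
    rw [Subgroup.mem_centralizer_iff]
    intro a ha
    by_cases ha1 : a = 1
    · rw [ha1, one_mul, mul_one]
    · rw [hAmem a ha ha1]
      have h1 : z * (x : G) * z⁻¹ = x := congrArg Subtype.val hx
      calc z * (x : G) = (z * (x : G) * z⁻¹) * z := by group
        _ = (x : G) * z := by rw [h1]))
  have hinvol : Function.Involutive φ.toMonoidHom := fun x => Subtype.ext (by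
    show z * (z * (x : G) * z⁻¹) * z⁻¹ = x
    calc z * (z * (x : G) * z⁻¹) * z⁻¹ = (z * z) * x * (z * z)⁻¹ := by group
      _ = x := by rw [hz2]; group)
  exact ⟨⟨fun a b => hfpf.commute_all_of_involutive hinvol a b⟩⟩

/-- The group theoretical conclusion. -/
theorem structure_of_above (h : Above π u) :
    IsMulCommutative ↥(Cfsg.oddCore G) ∧
      ((Nonempty (G ⧸ Cfsg.oddCore G ≃* Matrix.ProjectiveSpecialLinearGroup (Fin 2) (ZMod 5)) ∧
          orderOf u = 2) ∨
        (Nonempty (G ⧸ Cfsg.oddCore G ≃* Matrix.SpecialLinearGroup (Fin 2) (ZMod 5)) ∧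
          orderOf u = 4)) := by
  rcases Nat.even_or_odd (Nat.card π.ker) with he | ho
  · obtain ⟨a, b, c⟩ := even_case h he
    exact ⟨a, Or.inr ⟨b, c⟩⟩
  · obtain ⟨a, b, c⟩ := odd_case h ho
    exact ⟨a, Or.inl ⟨b, c⟩⟩

end Cfsg.Agent.CharTheory.DegreeThree
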